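import Cfsg.Agent.SL2Pres.Even
import Cfsg.Agent.Classical.LinearOrder
import Cfsg.Agent.PrimeGraph.SL2Char2

/-!
Short presentations of `SL₂` and `PSL₂`.
-/

set_option autoImplicit false
set_option linter.style.haveILetI false

namespace CfsgLib.SL2Pres

open Multiplicative (ofAdd)

universe v

variable {F : Type v} [Field F] [Fintype F]

theorem short_presentations :
    (∃ rels : Finset (FreeGroup (Fin 3)), rels.card ≤ 9 ∧
      Nonempty (PresentedGroup (↑rels : Set (FreeGroup (Fin 3))) ≃*
        Matrix.SpecialLinearGroup (Fin 2) F)) ∧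
    (∃ rels : Finset (FreeGroup (Fin 3)), rels.card ≤ 9 ∧
      Nonempty (PresentedGroup (↑rels : Set (FreeGroup (Fin 3))) ≃*
        Matrix.ProjectiveSpecialLinearGroup (Fin 2) F)) ∧
    (CharP F 2 → ∃ rels : Finset (FreeGroup (Fin 3)), rels.card ≤ 5 ∧
      Nonempty (PresentedGroup (↑rels : Set (FreeGroup (Fin 3))) ≃*
        Matrix.ProjectiveSpecialLinearGroup (Fin 2) F)) := by
  classical
  obtain ⟨p, hcp⟩ := CharP.exists F
  haveI := hcp
  haveI : Fact p.Prime := ⟨CharP.char_is_prime F p⟩
  rcases (Fact.out : p.Prime).eq_two_or_odd' with rfl | hodd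
  · letI := ZMod.algebra F 2
    obtain ⟨r, hr, ⟨e⟩⟩ := even_presentation (F := F)
    refine ⟨⟨r, by omega, ⟨e⟩⟩, ⟨r, by omega, ⟨e.trans CfsgLib.SL2Char2.slEquivPSL⟩⟩,
      fun _ => ⟨r, hr, ⟨e.trans CfsgLib.SL2Char2.slEquivPSL⟩⟩⟩
  letI := ZMod.algebra F p
  have hp2 : p ≠ 2 := by rintro rfl; exact absurd hodd (by decide)
  have h2 : (2 : F) ≠ 0 := Ring.two_ne_zero ((ringChar.eq F p).symm ▸ hp2)
  obtain ⟨g0, hg0, hg, hgen⟩ := exists_generator (F := F)
  set g : Fˣ := Units.mk0 g0 hg0
  have hgo : orderOf (g : F) = Fintype.card F - 1 := hg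
  obtain ⟨n, -, hn⟩ := FiniteField.card F p
  have hqodd : Odd (Fintype.card F) := hn ▸ hodd.pow
  obtain ⟨e, he⟩ := hqodd
  have h2e : Fintype.card F - 1 = 2 * e := by omega
  have he0 : 0 < e := by have := Fintype.one_lt_card (α := F); omega
  have hge : g ^ e = -1 := by
    refine Units.ext ?_
    rw [Units.val_pow_eq_pow_val, Units.val_neg, Units.val_one]
    rcases mul_self_eq_one_iff.1 (show (g : F) ^ e * (g : F) ^ e = 1 by
      rw [← pow_add, show e + e = orderOf (g : F) by omega, pow_orderOf_eq_one]) with h | h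
    · exact absurd h (pow_ne_one_of_lt_orderOf he0.ne' (by omega))
    · exact h
  let o : Fin 3 → FreeGroup (Fin 3) := FreeGroup.of
  refine ⟨?_, ?_, fun h => absurd (CharP.eq F hcp h) hp2⟩
  · obtain ⟨r, hr, hiso⟩ := odd_presentation p (MonoidHom.id (Matrix.SpecialLinearGroup (Fin 2) F))
      (fun y => ⟨y, rfl⟩) h2 hgo hgen [o 1 ^ e * (o 2 * o 2)⁻¹] (by
        simp only [List.mem_cons, List.not_mem_nil, or_false, forall_eq, map_mul, map_inv, map_pow,
          o, FreeGroup.lift_apply_of, Matrix.cons_val_one, Matrix.cons_val_zero, Matrix.cons_val_two,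
          Matrix.tail_cons, Matrix.head_cons, MonoidHom.id_apply]
        rw [mul_inv_eq_one, ← map_pow, hge, wSL_sq])
      (N := Fintype.card F - 1) (by omega) (fun G _ u h w hw hZ => by
        have hc : h ^ e = w * w := by
          have := hZ _ (List.mem_cons_self ..)
          simp only [map_mul, map_inv, map_pow, o, FreeGroup.lift_apply_of, Matrix.cons_val_one,
            Matrix.cons_val_zero, Matrix.cons_val_two, Matrix.tail_cons, Matrix.head_cons] at this
          exact mul_inv_eq_one.1 this
        have hq : h ^ (Fintype.card F - 1) = 1 := by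
          have h1 : w * h ^ e * w⁻¹ = (h ^ e)⁻¹ := by rw [← conj_pow, hw, inv_pow]
          rw [hc, show w * (w * w) * w⁻¹ = w * w by group, ← hc] at h1
          rw [h2e, two_mul, pow_add]
          exact eq_inv_iff_mul_eq_one.1 h1
        exact ⟨⟨e, by rw [zpow_natCast, hc]⟩, hq, hq⟩)
      (by rw [card_SL2, mul_assoc, ← Nat.card_eq_fintype_card])
    exact ⟨r, hr.trans (by simp), hiso⟩
  · obtain ⟨r, hr, hiso⟩ := odd_presentation p
      (QuotientGroup.mk' (Subgroup.center (Matrix.SpecialLinearGroup (Fin 2) F)))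
      (QuotientGroup.mk'_surjective _) h2 hgo hgen [o 2 * o 2, o 1 ^ e] (by
        have hz : (QuotientGroup.mk' (Subgroup.center (Matrix.SpecialLinearGroup (Fin 2) F)))
            (hSL (-1 : Fˣ)) = 1 := by
          refine (QuotientGroup.eq_one_iff _).2 (Subgroup.mem_center_iff.2 fun y => Subtype.ext ?_)
          have : (hSL (-1 : Fˣ)).1 = (-1 : Matrix (Fin 2) (Fin 2) F) := by
            ext i j
            fin_cases i <;> fin_cases j <;> simp [hSL_val]
          rw [Matrix.SpecialLinearGroup.coe_mul, Matrix.SpecialLinearGroup.coe_mul, this, mul_neg,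
            neg_mul, mul_one, one_mul]
        intro r hr
        simp only [List.mem_cons, List.not_mem_nil, or_false] at hr
        rcases hr with rfl | rfl
        · simp only [map_mul, o, FreeGroup.lift_apply_of, Matrix.cons_val_two, Matrix.tail_cons,
            Matrix.head_cons]
          rw [← map_mul, wSL_sq, hz]
        · simp only [map_pow, o, FreeGroup.lift_apply_of, Matrix.cons_val_one, Matrix.cons_val_zero]
          rw [← map_pow, ← map_pow, hge, hz])
      (N := e) he0 (fun G _ u h w hw hZ => by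
        have h1 : h ^ e = 1 := by
          simpa [o] using hZ (o 1 ^ e) (by simp)
        have h2' : w * w = 1 := by
          simpa [o] using hZ (o 2 * o 2) (by simp)
        exact ⟨⟨0, by rw [zpow_zero, h2']⟩, by rw [h2e, mul_comm, pow_mul, h1, one_pow], h1⟩)
      (by
        have h1 := CfsgLib.Linear.gcd_mul_card_PSL (F := F) (ι := Fin 2)
        rw [Fintype.card_fin, card_SL2, Nat.card_eq_fintype_card (α := F), h2e,
          Nat.gcd_eq_left ⟨e, rfl⟩] at h1
        rw [Nat.card_eq_fintype_card (α := F)]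
        refine Nat.le_of_mul_le_mul_left (le_of_eq ?_) two_pos
        refine Eq.trans ?_ h1.symm
        ring)
    exact ⟨r, hr.trans (by simp), hiso⟩

end CfsgLib.SL2Pres
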