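import Mathlib.Algebra.GroupWithZero.Basic
import Mathlib.Algebra.Field.Basic
import Mathlib.GroupTheory.OrderOfElement
import Mathlib.SetTheory.Cardinal.Finite
import Mathlib.Algebra.Group.Subgroup.Lattice
import Mathlib.Tactic.Group
import Mathlib.Tactic.FieldSimp
import Mathlib.Tactic.Ring

/-!
A bound for a group with a two-cell decomposition.
-/

set_option autoImplicit false

namespace CfsgLib.SL2Pres

open Multiplicative (ofAdd)

variable {F : Type*} [Field F] {G : Type*} [Group G]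

/-- the two cells -/
def Cells (ι : Multiplicative F →* G) (h w : G) (g : G) : Prop :=
  (∃ (a : F) (i : ℤ), g = ι (ofAdd a) * h ^ i) ∨
    ∃ (a b : F) (i : ℤ), g = ι (ofAdd a) * h ^ i * w * ι (ofAdd b)

variable {ι : Multiplicative F →* G} {h w : G} {x : F} (hx : x ≠ 0)
  (hh : ∀ t : F, h * ι (ofAdd t) * h⁻¹ = ι (ofAdd (x * t))) (hwh : w * h * w⁻¹ = h⁻¹)

include hx hh in
theorem h_zpow_ι (i : ℤ) : ∀ t : F, h ^ i * ι (ofAdd t) = ι (ofAdd (x ^ i * t)) * h ^ i := by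
  induction i using Int.induction_on with
  | zero => intro t; simp
  | succ n ih =>
    intro t
    rw [zpow_add_one, zpow_add_one₀ hx, mul_assoc,
      show h * ι (ofAdd t) = ι (ofAdd (x * t)) * h by rw [← hh]; group,
      ← mul_assoc, ih, mul_assoc, mul_assoc]
  | pred n ih =>
    intro t
    have h1 : h⁻¹ * ι (ofAdd t) = ι (ofAdd (x⁻¹ * t)) * h⁻¹ := by
      have := hh (x⁻¹ * t)
      rw [← mul_assoc, mul_inv_cancel₀ hx, one_mul] at this
      rw [← this]; group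
    rw [zpow_sub_one, zpow_sub_one₀ hx, mul_assoc, h1, ← mul_assoc, ih, mul_assoc, mul_assoc]

include hwh in
theorem w_zpow (i : ℤ) : w * h ^ i = h ^ (-i) * w := by
  have h1 : (w * h * w⁻¹) ^ i = h ^ (-i) := by rw [hwh, inv_zpow, zpow_neg]
  rw [conj_zpow] at h1
  rw [← h1, inv_mul_cancel_right]

include hx hh in
theorem ι_zpow (t : F) (i : ℤ) : ι (ofAdd t) * h ^ i = h ^ i * ι (ofAdd (x ^ (-i) * t)) := by
  rw [h_zpow_ι hx hh, ← mul_assoc, ← zpow_add₀ hx, add_neg_cancel, zpow_zero, one_mul]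

theorem mul_ι (a b : F) : ι (ofAdd a) * ι (ofAdd b) = ι (ofAdd (a + b)) := by
  rw [← map_mul]; rfl

theorem ι_zero : ι (ofAdd (0 : F)) = 1 := map_one ι

theorem cells_ι_mul (a : F) {g : G} (hg : Cells ι h w g) : Cells ι h w (ι (ofAdd a) * g) := by
  rcases hg with ⟨b, i, rfl⟩ | ⟨b, c, i, rfl⟩
  · exact Or.inl ⟨a + b, i, by rw [← mul_ι]; group⟩
  · exact Or.inr ⟨a + b, c, i, by rw [← mul_ι]; group⟩

include hx hh in
theorem cells_h_mul (j : ℤ) {g : G} (hg : Cells ι h w g) : Cells ι h w (h ^ j * g) := by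
  rcases hg with ⟨b, i, rfl⟩ | ⟨b, c, i, rfl⟩
  · exact Or.inl ⟨x ^ j * b, j + i, by rw [← mul_assoc, h_zpow_ι hx hh, zpow_add, mul_assoc]⟩
  · exact Or.inr ⟨x ^ j * b, c, j + i, by
      rw [← mul_assoc, ← mul_assoc, ← mul_assoc, h_zpow_ι hx hh, zpow_add]; group⟩

variable {c : ℤ} (hc : w * w = h ^ c)
  (hrep : ∀ t : F, t ≠ 0 → ∃ (k : ℤ) (t₀ a b : F) (j : ℤ), t = x ^ k * t₀ ∧
    w * ι (ofAdd t₀) * w⁻¹ = ι (ofAdd a) * h ^ j * w * ι (ofAdd b))

include hx hh hwh hrep in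
theorem w_conj {t : F} (ht : t ≠ 0) :
    ∃ (a b : F) (j : ℤ), w * ι (ofAdd t) * w⁻¹ = ι (ofAdd a) * h ^ j * w * ι (ofAdd b) := by
  obtain ⟨k, t₀, a, b, j, rfl, e⟩ := hrep t ht
  refine ⟨x ^ (-k) * a, x ^ (-k) * b, -k + j + -k, ?_⟩
  have e1 : ι (ofAdd (x ^ k * t₀)) = h ^ k * ι (ofAdd t₀) * h ^ (-k) := by
    rw [h_zpow_ι hx hh, zpow_neg, mul_inv_cancel_right]
  have e2 : h ^ (-k) * w⁻¹ = w⁻¹ * h ^ k := by
    rw [eq_inv_mul_iff_mul_eq, ← mul_assoc, w_zpow hwh, neg_neg, mul_inv_cancel_right]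
  calc w * ι (ofAdd (x ^ k * t₀)) * w⁻¹
      = (w * h ^ k) * ι (ofAdd t₀) * (h ^ (-k) * w⁻¹) := by rw [e1]; group
    _ = h ^ (-k) * (w * ι (ofAdd t₀) * w⁻¹) * h ^ k := by rw [w_zpow hwh, e2]; group
    _ = (h ^ (-k) * ι (ofAdd a)) * h ^ j * w * (ι (ofAdd b) * h ^ k) := by rw [e]; group
    _ = ι (ofAdd (x ^ (-k) * a)) * h ^ (-k) * h ^ j * w *
          (h ^ k * ι (ofAdd (x ^ (-k) * b))) := by rw [h_zpow_ι hx hh (-k), ι_zpow hx hh b]
    _ = ι (ofAdd (x ^ (-k) * a)) * h ^ (-k) * h ^ j * (w * h ^ k) * ι (ofAdd (x ^ (-k) * b)) := by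
        group
    _ = _ := by rw [w_zpow hwh, zpow_add, zpow_add]; group

include hx hh hwh hc hrep in
theorem cells_w_mul {g : G} (hg : Cells ι h w g) : Cells ι h w (w * g) := by
  have hwi : ∀ (a : F) (i : ℤ), ∃ (a' b' : F) (j : ℤ),
      w * (ι (ofAdd a) * h ^ i) = ι (ofAdd a') * h ^ j * w * ι (ofAdd b') := by
    intro a i
    refine ⟨0, x ^ (-i) * a, -i, ?_⟩
    rw [ι_zero, one_mul, ι_zpow hx hh, ← mul_assoc, w_zpow hwh]
  rcases hg with ⟨a, i, rfl⟩ | ⟨a, b, i, rfl⟩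
  · exact Or.inr (hwi a i)
  · by_cases ha : a = 0
    · refine Or.inl ⟨x ^ (-i + c) * b, -i + c, ?_⟩
      rw [← h_zpow_ι hx hh, ha, ι_zero, one_mul, zpow_add, ← hc]
      rw [← mul_assoc, ← mul_assoc, w_zpow hwh]; group
    · obtain ⟨a', b', j, e⟩ := w_conj hx hh hwh hrep ha
      refine Or.inr ⟨a', x ^ (-(c - i)) * b' + b, j + -(c - i), ?_⟩
      calc w * (ι (ofAdd a) * h ^ i * w * ι (ofAdd b))
          = (w * ι (ofAdd a) * w⁻¹) * (w * (h ^ i * w)) * ι (ofAdd b) := by group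
        _ = ι (ofAdd a') * h ^ j * w * (ι (ofAdd b') * h ^ (c - i)) * ι (ofAdd b) := by
            rw [e, ← mul_assoc w, w_zpow hwh, mul_assoc (h ^ (-i)), hc, ← zpow_add,
              neg_add_eq_sub]
            group
        _ = ι (ofAdd a') * h ^ j * (w * h ^ (c - i)) *
              (ι (ofAdd (x ^ (-(c - i)) * b')) * ι (ofAdd b)) := by
            rw [ι_zpow hx hh b']; group
        _ = _ := by rw [mul_ι, w_zpow hwh, zpow_add]; group

include hx hh hwh hc hrep in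
theorem cells_univ (hgen : Subgroup.closure ({ι (ofAdd 1), h, w} : Set G) = ⊤) (g : G) :
    Cells ι h w g := by
  have hg : g ∈ Subgroup.closure ({ι (ofAdd 1), h, w} : Set G) := hgen ▸ Subgroup.mem_top g
  suffices H : ∀ y, Cells ι h w y → Cells ι h w (g * y) by
    have h1 : Cells ι h w (1 : G) := Or.inl ⟨0, 0, by rw [ι_zero, zpow_zero, mul_one]⟩
    simpa using H 1 h1
  have hh1 : ∀ y, Cells ι h w y → Cells ι h w (h⁻¹ * y) := fun y hy => by
    simpa using cells_h_mul hx hh (-1) hy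
  refine Subgroup.closure_induction_left (p := fun g _ => ∀ y, Cells ι h w y → Cells ι h w (g * y))
    (fun y hy => by rwa [one_mul]) ?_ ?_ hg
  · rintro s (rfl | rfl | rfl) z - ih y hy <;> rw [mul_assoc]
    · exact cells_ι_mul _ (ih y hy)
    · simpa using cells_h_mul hx hh 1 (ih y hy)
    · exact cells_w_mul hx hh hwh hc hrep (ih y hy)
  · rintro s (rfl | rfl | rfl) z - ih y hy <;> rw [mul_assoc]
    · rw [← map_inv]; exact cells_ι_mul (-1) (ih y hy)
    · exact hh1 _ (ih y hy)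
    · rw [show s⁻¹ = s * h ^ (-c) by rw [zpow_neg, ← hc]; group, mul_assoc]
      exact cells_w_mul hx hh hwh hc hrep (cells_h_mul hx hh (-c) (ih y hy))

include hx hh hwh hc hrep in
theorem card_le [Finite F] (hgen : Subgroup.closure ({ι (ofAdd 1), h, w} : Set G) = ⊤) {N : ℕ}
    (hN : 0 < N) (hper : h ^ N = 1) :
    Finite G ∧ Nat.card G ≤ Nat.card F * (Nat.card F + 1) * N := by
  let f : F × Option F × Fin N → G := fun z =>
    match z.2.1 with
    | none => ι (ofAdd z.1) * h ^ (z.2.2 : ℕ)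
    | some b => ι (ofAdd z.1) * h ^ (z.2.2 : ℕ) * w * ι (ofAdd b)
  have hfin : ∀ i : ℤ, ∃ k : Fin N, h ^ (k : ℕ) = h ^ i := fun i => by
    refine ⟨⟨(i % (N : ℤ)).toNat, ?_⟩, ?_⟩
    · have := Int.emod_lt_of_pos i (show (0 : ℤ) < N by omega)
      have := Int.emod_nonneg i (show (N : ℤ) ≠ 0 by omega)
      omega
    · rw [← zpow_natCast h, Fin.val_mk, Int.toNat_of_nonneg (Int.emod_nonneg _ (by omega))]
      exact (zpow_eq_zpow_emod' i hper).symm
  have hf : Function.Surjective f := fun g => by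
    rcases cells_univ hx hh hwh hc hrep hgen g with ⟨a, i, rfl⟩ | ⟨a, b, i, rfl⟩
    · obtain ⟨k, hk⟩ := hfin i
      exact ⟨(a, none, k), by simp only [f, hk]⟩
    · obtain ⟨k, hk⟩ := hfin i
      exact ⟨(a, some b, k), by simp only [f, hk]⟩
  refine ⟨Finite.of_surjective f hf, (Nat.card_le_card_of_surjective f hf).trans (le_of_eq ?_)⟩
  rw [Nat.card_prod, Nat.card_prod, Finite.card_option, Nat.card_fin, mul_assoc]

end CfsgLib.SL2Pres
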