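import Cfsg.Agent.SL2Pres.Word
import Cfsg.Agent.SL2Pres.Cells
import Mathlib.FieldTheory.Finite.Basic
import Mathlib.FieldTheory.Finite.GaloisField
import Mathlib.FieldTheory.IntermediateField.Adjoin.Basic
import Mathlib.GroupTheory.SpecificGroups.Cyclic
import Mathlib.RingTheory.IntegralDomain
import Mathlib.Algebra.CharP.Frobenius
import Mathlib.GroupTheory.FreeGroup.Basic

/-!
The field parameters of the short presentations.
-/

set_option autoImplicit false
set_option linter.style.haveILetI false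

namespace CfsgLib.SL2Pres

open Polynomial
open Multiplicative (ofAdd)

universe v

variable {p : ℕ} [Fact p.Prime] {F : Type v} [Field F] [Fintype F] [Algebra (ZMod p) F]

theorem exists_generator : ∃ g : F, g ≠ 0 ∧ orderOf g = Fintype.card F - 1 ∧
    ∀ t : F, t ≠ 0 → ∃ k : ℕ, t = g ^ k := by
  classical
  obtain ⟨g, hg⟩ := IsCyclic.exists_monoid_generator (α := Fˣ)
  refine ⟨g, g.ne_zero, ?_, fun t ht => ?_⟩
  · rw [orderOf_units, orderOf_eq_card_of_forall_mem_zpowers fun x => ?_, Nat.card_eq_fintype_card,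
      Fintype.card_units]
    obtain ⟨k, hk⟩ := Submonoid.mem_powers_iff _ _ |>.1 (hg x)
    exact ⟨k, by simpa using hk⟩
  · obtain ⟨k, hk⟩ := Submonoid.mem_powers_iff _ _ |>.1 (hg (Units.mk0 t ht))
    exact ⟨k, by simpa using (congrArg Units.val hk).symm⟩

/-- an element outside all proper subfields generates -/
theorem adjoin_eq_top {n : ℕ} (hn : Fintype.card F = p ^ n) {y : F}
    (h : ∀ k, 0 < k → k ∣ n → k < n → y ^ (p ^ k) ≠ y) : Algebra.adjoin (ZMod p) {y} = ⊤ := by
  classical
  set K := IntermediateField.adjoin (ZMod p) ({y} : Set F) with hK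
  haveI : Fintype K := Fintype.ofFinite _
  have hk : Fintype.card K = p ^ Module.finrank (ZMod p) K := by
    rw [Module.card_eq_pow_finrank (K := ZMod p) (V := K), ZMod.card]
  have hN : Module.finrank (ZMod p) F = n := by
    have := Module.card_eq_pow_finrank (K := ZMod p) (V := F)
    rw [ZMod.card, hn] at this
    exact (Nat.pow_right_injective (Fact.out : p.Prime).two_le this).symm
  have hd : Module.finrank (ZMod p) K ∣ n := ⟨Module.finrank K F, by
    rw [← hN, Module.finrank_mul_finrank]⟩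
  have hy : y ^ (p ^ Module.finrank (ZMod p) K) = y := by
    rw [← hk]
    exact congrArg Subtype.val (FiniteField.pow_card
      (⟨y, IntermediateField.mem_adjoin_simple_self _ y⟩ : K))
  have hn0 : 0 < n := by rw [← hN]; exact Module.finrank_pos
  have htop : K = ⊤ := by
    rcases (Nat.le_of_dvd hn0 hd).lt_or_eq with hlt | he
    · exact absurd hy (h _ Module.finrank_pos hd hlt)
    · exact IntermediateField.eq_of_le_of_finrank_eq le_top
        (by rw [he, IntermediateField.finrank_top', hN])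
  have hint : IsAlgebraic (ZMod p) y := (IsIntegral.of_finite (ZMod p) y).isAlgebraic
  rw [← IntermediateField.adjoin_simple_toSubalgebra_of_isAlgebraic hint, ← hK, htop,
    IntermediateField.top_toSubalgebra]

/-- the squares of the generator generate -/
theorem adjoin_sq {n : ℕ} (hn : Fintype.card F = p ^ n) {g : F}
    (hg : orderOf g = Fintype.card F - 1) : Algebra.adjoin (ZMod p) {g ^ 2} = ⊤ := by
  refine adjoin_eq_top hn fun k hk hkn hlt e => ?_
  have hp : p.Prime := Fact.out
  have h1 : 2 ≤ p ^ k := le_trans hp.two_le (Nat.le_self_pow hk.ne' p)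
  have h2 : p ^ k * p ^ k ≤ p ^ n := by
    rw [← pow_add]
    obtain ⟨c, rfl⟩ := hkn
    refine Nat.pow_le_pow_right hp.pos ?_
    rcases c with - | - | c <;> simp_all <;> nlinarith
  have hg0 : g ≠ 0 := fun h => by
    rw [h, orderOf_zero] at hg
    have := Fintype.one_lt_card (α := F)
    omega
  have h3 : orderOf g ∣ 2 * (p ^ k - 1) := orderOf_dvd_of_pow_eq_one (mul_right_cancel₀ (pow_ne_zero 2 hg0) (by
    rw [one_mul, ← pow_add, show 2 * (p ^ k - 1) + 2 = 2 * p ^ k by omega, pow_mul, e]))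
  have h4 := Nat.le_of_dvd (by omega) h3
  rw [hg, hn] at h4
  obtain ⟨Q, hQ⟩ : ∃ Q, p ^ k = Q + 1 := ⟨p ^ k - 1, by omega⟩
  rw [hQ, Nat.add_sub_cancel] at h4
  rw [hQ] at h2 h1
  have h5 : (Q + 1) * (Q + 1) ≤ 2 * Q + 1 := by omega
  nlinarith

/-- two consecutive squares, the first of which generates -/
theorem exists_pair {n : ℕ} (hn : Fintype.card F = p ^ n) (hn2 : 2 ≤ n) (h2 : (2 : F) ≠ 0)
    (h9 : Fintype.card F ≠ 9) {g : F} (hg : orderOf g = Fintype.card F - 1)
    (hgen : ∀ t : F, t ≠ 0 → ∃ k : ℕ, t = g ^ k) :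
    ∃ a b : ℕ, Algebra.adjoin (ZMod p) {(g ^ 2) ^ b} = ⊤ ∧ (g ^ 2) ^ a = 1 + (g ^ 2) ^ b := by
  have hp : p.Prime := Fact.out
  have hq : 9 ≤ Fintype.card F := by
    rw [hn]
    have hp2 : p ≠ 2 := by
      rintro rfl
      haveI : CharP F 2 := charP_of_injective_algebraMap (algebraMap (ZMod 2) F).injective 2
      exact h2 (CharTwo.two_eq_zero)
    calc 9 = 3 ^ 2 := by norm_num
      _ ≤ p ^ 2 := Nat.pow_le_pow_left (by have := hp.two_le; omega) 2
      _ ≤ p ^ n := Nat.pow_le_pow_right hp.pos hn2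
  have hg0 : g ≠ 0 := fun h => by rw [h, orderOf_zero] at hg; omega
  have hpow : ∀ j, 0 < j → j < Fintype.card F - 1 → g ^ j ≠ 1 :=
    fun j hj hlt => pow_ne_one_of_lt_orderOf hj.ne' (hg ▸ hlt)
  set s := (g - g⁻¹) / 2 with hs
  set t := (g + g⁻¹) / 2 with ht
  have hst : t ^ 2 = 1 + s ^ 2 := by
    rw [hs, ht]
    field_simp
    ring
  have hs0 : s ≠ 0 := by
    intro h
    refine hpow 2 (by omega) (by omega) ?_
    rw [hs, div_eq_zero_iff, or_iff_left h2, sub_eq_zero] at h
    rw [pow_two]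
    nth_rw 2 [h]
    exact mul_inv_cancel₀ hg0
  have ht0 : t ≠ 0 := by
    intro h
    refine hpow 4 (by omega) (by omega) ?_
    rw [ht, div_eq_zero_iff, or_iff_left h2, add_eq_zero_iff_eq_neg] at h
    have : g * g = -1 := by nth_rw 2 [h]; rw [mul_neg, mul_inv_cancel₀ hg0]
    calc g ^ 4 = (g * g) * (g * g) := by ring
      _ = 1 := by rw [this]; ring
  obtain ⟨b, hb⟩ := hgen s hs0
  obtain ⟨a, ha⟩ := hgen t ht0
  have hb' : (g ^ 2) ^ b = s ^ 2 := by rw [hb, ← pow_mul, ← pow_mul, mul_comm]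
  refine ⟨a, b, ?_, by rw [hb', ← hst, ha, ← pow_mul, ← pow_mul, mul_comm]⟩
  rw [hb']
  refine adjoin_eq_top hn fun k hk hkn hlt e => ?_
  haveI : CharP F p := charP_of_injective_algebraMap (algebraMap (ZMod p) F).injective p
  set φ := iterateFrobenius F p k
  have hφ : ∀ z, φ z = z ^ (p ^ k) := fun z => iterateFrobenius_def p k z
  have hz : φ (g ^ 2) + φ (g ^ 2)⁻¹ = g ^ 2 + (g ^ 2)⁻¹ := by
    have e1 : g ^ 2 + (g ^ 2)⁻¹ = (4 : ℕ) * s ^ 2 + (2 : ℕ) := by
      rw [hs]; push_cast; field_simp; ring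
    rw [← map_add, e1, map_add, map_mul, map_natCast, map_natCast, hφ (s ^ 2), e]
  rw [map_inv₀] at hz
  set z := g ^ 2
  have hz0 : z ≠ 0 := pow_ne_zero _ hg0
  have hfz0 : φ z ≠ 0 := by rw [hφ]; exact pow_ne_zero _ hz0
  have hfac : (φ z - z) * (φ z * z - 1) = 0 := by
    field_simp at hz
    linear_combination hz
  have h1 : 3 ≤ p ^ k := by
    have hp2 : p ≠ 2 := fun e2 => by subst e2; exact h2 (CharTwo.two_eq_zero)
    have := hp.two_le
    exact le_trans (show 3 ≤ p by omega) (Nat.le_self_pow hk.ne' p)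
  have h2k : p ^ k * p ^ k ≤ Fintype.card F := by
    rw [hn, ← pow_add]
    obtain ⟨c, rfl⟩ := hkn
    refine Nat.pow_le_pow_right hp.pos ?_
    rcases c with - | - | c <;> simp_all <;> nlinarith
  have hd : orderOf g ∣ 2 * (p ^ k - 1) ∨ orderOf g ∣ 2 * (p ^ k + 1) := by
    rcases mul_eq_zero.1 hfac with h' | h' <;> rw [sub_eq_zero, hφ] at h'
    · left
      refine orderOf_dvd_of_pow_eq_one (mul_right_cancel₀ hz0 ?_)
      rw [one_mul]
      conv_rhs => rw [← h']
      rw [← pow_mul, ← pow_add, show 2 * (p ^ k - 1) + 2 = 2 * p ^ k by omega]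
    · right
      refine orderOf_dvd_of_pow_eq_one ?_
      rw [pow_mul, pow_succ]
      exact h'
  rw [hg] at hd
  rcases hd with hd | hd
  · have := Nat.le_of_dvd (by omega) hd
    obtain ⟨Q, hQ⟩ : ∃ Q, p ^ k = Q + 1 := ⟨p ^ k - 1, by omega⟩
    rw [hQ, Nat.add_sub_cancel] at this
    rw [hQ] at h2k h1
    have h5 : (Q + 1) * (Q + 1) ≤ 2 * Q + 1 := by omega
    nlinarith
  · have hle := Nat.le_of_dvd (by omega) hd
    have hpk : p ^ k = 3 := by
      by_contra hne
      have h4 : 4 ≤ p ^ k := by omega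
      nlinarith [Nat.sub_add_cancel (show 1 ≤ Fintype.card F by omega)]
    rw [hpk] at hle
    have hk1 : k = 1 := by
      by_contra hne
      have : p ^ 2 ≤ p ^ k := Nat.pow_le_pow_right hp.pos (by omega)
      nlinarith [hp.two_le]
    rw [hk1, pow_one] at hpk
    subst hpk
    apply h9
    rw [hn] at hle ⊢
    have : n = 2 := by
      by_contra hne
      have : 3 ^ 3 ≤ 3 ^ n := Nat.pow_le_pow_right (by omega) (by omega)
      omega
    rw [this]
    norm_num

/-- the polynomial expressing `x` through `y` and vanishing at the other powers -/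
theorem exists_interp {x : F} {b : ℕ} (hy : Algebra.adjoin (ZMod p) {x ^ b} = ⊤) :
    ∃ P : (ZMod p)[X], aeval (x ^ b) P = x ∧
      ∀ ξ : F, ξ ≠ 0 → aeval (ξ ^ b) P = ξ → aeval ξ (minpoly (ZMod p) x) = 0 := by
  classical
  set y := x ^ b
  have hint : IsIntegral (ZMod p) y := IsIntegral.of_finite _ _
  obtain ⟨P0, hP0⟩ : ∃ P0 : (ZMod p)[X], aeval y P0 = x := by
    have : x ∈ Algebra.adjoin (ZMod p) {y} := hy ▸ Algebra.mem_top
    rw [Algebra.adjoin_singleton_eq_range_aeval] at this
    exact this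
  have hfrob : aeval y ((X : (ZMod p)[X]) ^ Fintype.card F - X) = 0 := by
    simp [FiniteField.pow_card]
  obtain ⟨Q, hQ⟩ := minpoly.dvd (ZMod p) y hfrob
  have hsep : ((X : (ZMod p)[X]) ^ Fintype.card F - X).Separable := by
    haveI : CharP F p := charP_of_injective_algebraMap (algebraMap (ZMod p) F).injective p
    refine galois_poly_separable p _ ?_
    obtain ⟨k, -, hk⟩ := FiniteField.card F p
    rw [hk]
    exact dvd_pow_self p k.pos.ne'
  rw [hQ] at hsep
  obtain ⟨r, s, hrs⟩ := hsep.isCoprime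
  refine ⟨P0 * (s * Q), ?_, fun ξ hξ e => ?_⟩
  · rw [map_mul, hP0]
    have := congrArg (aeval y) hrs
    rw [map_add, map_mul, minpoly.aeval, mul_zero, zero_add, map_one] at this
    rw [this, mul_one]
  · set η := ξ ^ b
    by_cases hm : aeval η (minpoly (ZMod p) y) = 0
    · obtain ⟨R, hR⟩ := minpoly.dvd (ZMod p) y
        (show aeval y ((minpoly (ZMod p) x).comp (P0 * (s * Q))) = 0 by
          rw [aeval_comp]
          have h1 : aeval y (P0 * (s * Q)) = x := by
            rw [map_mul, hP0]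
            have := congrArg (aeval y) hrs
            rw [map_add, map_mul, minpoly.aeval, mul_zero, zero_add, map_one] at this
            rw [this, mul_one]
          rw [h1, minpoly.aeval])
      have := congrArg (aeval η) hR
      rw [aeval_comp, e, map_mul, hm, zero_mul] at this
      exact this
    · exfalso
      have h1 : aeval η ((X : (ZMod p)[X]) ^ Fintype.card F - X) = 0 := by simp [FiniteField.pow_card]
      rw [hQ, map_mul, mul_eq_zero, or_iff_right hm] at h1
      rw [map_mul, map_mul, h1, mul_zero, mul_zero] at e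
      exact hξ e.symm

/-- the minimal polynomial lies in the ideal of the two equations -/
theorem exists_combination {x : F} {b : ℕ} {P : (ZMod p)[X]}
    (hP : ∀ ξ : F, ξ ≠ 0 → aeval (ξ ^ b) P = ξ → aeval ξ (minpoly (ZMod p) x) = 0) :
    ∃ r s : (ZMod p)[X], minpoly (ZMod p) x =
      r * (X ^ (Fintype.card F - 1) - 1) + s * (P.comp (X ^ b) - X) := by
  classical
  set A : (ZMod p)[X] := X ^ (Fintype.card F - 1) - 1
  set B : (ZMod p)[X] := P.comp (X ^ b) - X
  set d := EuclideanDomain.gcd A B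
  have hq : 1 < Fintype.card F := Fintype.one_lt_card
  have hA0 : A ≠ 0 := by
    apply X_pow_sub_C_ne_zero (R := ZMod p) (n := Fintype.card F - 1) (by omega) 1
  have hd0 : d ≠ 0 := fun h => hA0 (EuclideanDomain.gcd_eq_zero_iff.1 h).1
  suffices hdvd : d ∣ minpoly (ZMod p) x by
    obtain ⟨k, hk⟩ := hdvd
    refine ⟨EuclideanDomain.gcdA A B * k, EuclideanDomain.gcdB A B * k, ?_⟩
    rw [hk, show d = A * EuclideanDomain.gcdA A B + B * EuclideanDomain.gcdB A B from
      EuclideanDomain.gcd_eq_gcd_ab A B]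
    ring
  rw [← map_dvd_map' (algebraMap (ZMod p) F)]
  set D := d.map (algebraMap (ZMod p) F)
  have hDA : D ∣ (X ^ Fintype.card F - X : F[X]) := by
    refine (Polynomial.map_dvd _ (EuclideanDomain.gcd_dvd_left A B)).trans ⟨X, ?_⟩
    simp only [A, Polynomial.map_sub, Polynomial.map_pow, map_X, Polynomial.map_one, sub_mul, one_mul]
    rw [← pow_succ, Nat.sub_add_cancel hq.le]
  have hne : (X ^ Fintype.card F - X : F[X]) ≠ 0 := FiniteField.X_pow_card_sub_X_ne_zero F hq
  have hsplit : (X ^ Fintype.card F - X : F[X]).Splits := by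
    rw [splits_iff_card_roots, FiniteField.roots_X_pow_card_sub_X,
      FiniteField.X_pow_card_sub_X_natDegree_eq F hq]
    rfl
  have hDs : D.Splits := hsplit.of_dvd hne hDA
  have hnod : D.roots.Nodup := by
    refine Multiset.nodup_of_le (Polynomial.roots.le_of_dvd hne hDA) ?_
    rw [FiniteField.roots_X_pow_card_sub_X]
    exact Finset.univ.nodup
  have hD0 : D ≠ 0 := (Polynomial.map_ne_zero_iff (algebraMap (ZMod p) F).injective).2 hd0
  refine hDs.dvd_of_roots_le_roots hD0 ((Multiset.le_iff_subset hnod).2 fun ξ hξ => ?_)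
  rw [mem_roots hD0, IsRoot, eval_map_algebraMap] at hξ
  have hA : aeval ξ A = 0 :=
    aeval_eq_zero_of_dvd_aeval_eq_zero (EuclideanDomain.gcd_dvd_left A B) hξ
  have hB : aeval ξ B = 0 :=
    aeval_eq_zero_of_dvd_aeval_eq_zero (EuclideanDomain.gcd_dvd_right A B) hξ
  have hξ0 : ξ ≠ 0 := by
    rintro rfl
    simp [A, zero_pow (show Fintype.card F - 1 ≠ 0 by omega)] at hA
  simp only [B, map_sub, aeval_comp, aeval_X_pow, aeval_X, sub_eq_zero] at hB
  rw [mem_roots ((Polynomial.map_ne_zero_iff (algebraMap (ZMod p) F).injective).2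
    (minpoly.ne_zero (IsIntegral.of_finite _ _))), IsRoot, eval_map_algebraMap]
  exact hP ξ hξ0 hB

end CfsgLib.SL2Pres
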