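import Cfsg.Agent.SL2Pres.Odd
import Cfsg.Agent.SL2C.Basic
import Mathlib.GroupTheory.Transfer
import Mathlib.GroupTheory.NoncommCoprod
import Mathlib.Algebra.CharP.Two

/-!
Five relations in characteristic two.
-/

set_option autoImplicit false
set_option linter.unusedSectionVars false
set_option linter.unusedSimpArgs false
set_option linter.style.haveILetI false

namespace CfsgLib.SL2Pres

open Polynomial
open Multiplicative (ofAdd)

universe v

theorem card_SL2 {F : Type*} [Field F] [Fintype F] :
    Nat.card (Matrix.SpecialLinearGroup (Fin 2) F) =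
      Nat.card F * ((Nat.card F + 1) * (Nat.card F - 1)) := by
  rw [CfsgLib.SL2C.card_SL2_mul, Nat.card_eq_fintype_card, show Fintype.card F ^ 2 - 1 = _ from
    Nat.sq_sub_sq (Fintype.card F) 1]

/-- a central involution of a perfect double cover with abelian Sylow subgroup is trivial -/
theorem eq_one_of_transfer {G : Type} [Group G] [Finite G] {z : G} (hz : z ∈ Subgroup.center G)
    (hz2 : z * z = 1) (P : Subgroup G) (hP : IsMulCommutative P) (_hzP : z ∈ P) (hodd : Odd P.index)
    (hperf : ∀ (A : Type) [CommGroup A] (φ : G →* A), φ = 1) : z = 1 := by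
  letI : CommGroup P := { (inferInstance : Group P) with mul_comm := hP.is_comm.comm }
  have h := MonoidHom.transfer_eq_pow (MonoidHom.id P) z (fun k g₀ _ => by
    rw [Subgroup.mem_center_iff.1 (pow_mem hz k) g₀⁻¹, inv_mul_cancel_right])
  have h1 : (MonoidHom.transfer (MonoidHom.id P)) = 1 := hperf P _
  rw [h1] at h
  have h2 : z ^ P.index = 1 := (congrArg Subtype.val h).symm
  obtain ⟨m, hm⟩ := hodd
  rw [hm, pow_succ, pow_mul, sq, hz2, one_pow, one_mul] at h2
  exact h2

variable {F : Type v} [Field F] [Fintype F] [Algebra (ZMod 2) F]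

theorem neg_eq (t : F) : -t = t := by
  haveI : CharP F 2 := charP_of_injective_algebraMap (algebraMap (ZMod 2) F).injective 2
  exact CharTwo.neg_eq t

open scoped Classical in
/-- in characteristic two, five relations presenting `SL₂` -/
theorem even_presents {g : Fˣ} (hg : orderOf (g : F) = Fintype.card F - 1)
    (hgen : ∀ t : F, t ≠ 0 → ∃ k : ℕ, t = (g : F) ^ k) :
    ∃ L : List (FreeGroup (Fin 3)), L.length ≤ 5 ∧
      Presents L ![ιSL (ofAdd (1 : F)), hSL g, wSL] := by
  classical
  haveI : CharP F 2 := charP_of_injective_algebraMap (algebraMap (ZMod 2) F).injective 2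
  set g0 : F := (g : F) with hg0def
  have hg0 : g0 ≠ 0 := g.ne_zero
  obtain ⟨n, -, hn⟩ := FiniteField.card F 2
  have hq2 : Nat.card F = Fintype.card F := Nat.card_eq_fintype_card
  have heven : Even (Fintype.card F) := by
    rw [hn]; exact (Nat.even_pow' n.pos.ne').2 even_two
  set x : F := g0 ^ 2
  have hx : Algebra.adjoin (ZMod 2) {x} = ⊤ := adjoin_sq hn hg
  have hsurj : Function.Surjective (aeval x : (ZMod 2)[X] →ₐ[ZMod 2] F) := by
    rw [← AlgHom.range_eq_top, ← Algebra.adjoin_singleton_eq_range_aeval, hx]
  have hsq : ∀ t : F, t ≠ 0 → ∃ k : ℕ, t = x ^ k := by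
    intro t ht
    obtain ⟨k, rfl⟩ := hgen t ht
    rcases Nat.even_or_odd k with ⟨i, rfl⟩ | ⟨i, rfl⟩
    · exact ⟨i, by rw [← pow_mul, two_mul]⟩
    · refine ⟨i + Fintype.card F / 2, ?_⟩
      rw [← pow_mul, mul_add, Nat.mul_div_cancel' heven.two_dvd, pow_add, pow_add,
        FiniteField.pow_card, pow_one]
  obtain ⟨ft, hft⟩ := hsurj g0⁻¹
  obtain ⟨fa, hfa⟩ := hsurj g0
  let o : Fin 3 → FreeGroup (Fin 3) := FreeGroup.of
  set T := Matrix.SpecialLinearGroup (Fin 2) F
  set u : T := ιSL (ofAdd 1)
  set h : T := hSL g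
  set w : T := wSL
  have hι : ∀ t, h * ιSL (ofAdd t) * h⁻¹ = ιSL (ofAdd (x * t)) := hSL_conj g
  have hwd : ∀ f : (ZMod 2)[X], wd u h f = ιSL (ofAdd (aeval x f)) := wd_eq ιSL h x hι
  have hw2 : w * w = 1 := by
    rw [wSL_sq, show (-1 : Fˣ) = 1 from Units.ext (by simp [neg_eq]), map_one]
  have hbr : u * w * u * (w * u * w)⁻¹ = 1 := by
    have e := wSL_ι (1 : Fˣ)
    simp only [inv_one, Units.val_one, neg_eq, map_one, mul_one] at e
    have hwi : (w : T)⁻¹ = w := inv_eq_of_mul_eq_one_right hw2
    rw [hwi] at e
    rw [mul_inv_eq_one, ← e]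
  have hgens : Subgroup.closure (Set.range ![u, h, w]) = ⊤ := by
    have hK : ∀ i, ![u, h, w] i ∈ Subgroup.closure (Set.range ![u, h, w]) := fun i =>
      Subgroup.subset_closure ⟨i, rfl⟩
    refine closure_images (MonoidHom.id T) (fun y => ⟨y, rfl⟩) (fun t => ?_) (hK 2)
    obtain ⟨f, hfe⟩ := hsurj t
    show ιSL (ofAdd t) ∈ _
    rw [← hfe, ← hwd]
    refine wd_mem _ (fun i => ?_) f
    rw [cj_natCast]
    exact mul_mem (mul_mem (pow_mem (hK 1) i) (hK 0)) (inv_mem (pow_mem (hK 1) i))
  have hlift : ∀ {L : List (FreeGroup (Fin 3))} (φ : FreeGroup (Fin 3) →*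
      PresentedGroup (↑L.toFinset : Set (FreeGroup (Fin 3)))),
      φ = PresentedGroup.mk _ → ∀ r ∈ L, φ r = 1 := fun φ hφ r hr =>
    hφ ▸ PresentedGroup.one_of_mem (by simpa using hr)
  by_cases hF2 : Fintype.card F = 2
  · have hg1 : g0 = 1 := by
      have := pow_orderOf_eq_one g0
      rwa [hg, hF2, pow_one] at this
    let L : List (FreeGroup (Fin 3)) := [o 2 * o 2, o 0 * o 2 * o 0 * (o 2 * o 0 * o 2)⁻¹, o 1]
    refine ⟨L, by simp [L], presents_of_bound L ![u, h, w] (by
        intro r hr
        simp only [L, List.mem_cons, List.not_mem_nil, or_false] at hr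
        rcases hr with rfl | rfl | rfl
        · simpa [o] using hw2
        · simpa [o] using hbr
        · simp only [o, FreeGroup.lift_apply_of, Matrix.cons_val_one, Matrix.cons_val_zero, h]
          rw [show g = 1 from Units.ext hg1, map_one]) hgens (by
      set φ := PresentedGroup.mk (↑L.toFinset : Set (FreeGroup (Fin 3)))
      have hR := hlift φ rfl
      set U := φ (o 0) with hU
      set H := φ (o 1)
      set W := φ (o 2)
      have e1 : W * W = 1 := by have := hR _ (List.mem_cons_self ..); rwa [map_mul] at this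
      have e2 : U * W * U = W * U * W := by
        have := hR _ (List.mem_cons_of_mem _ (List.mem_cons_self ..))
        simp only [map_mul, map_inv] at this
        exact mul_inv_eq_one.1 this
      have e3 : H = 1 := hR _ (List.mem_cons_of_mem _ (List.mem_cons_of_mem _ (List.mem_cons_self ..)))
      have eu : U * U = 1 := by
        have hc : (U * W) * U * (U * W)⁻¹ = W := by rw [e2]; group
        calc U * U = (U * W)⁻¹ * ((U * W) * U * (U * W)⁻¹ * ((U * W) * U * (U * W)⁻¹)) * (U * W) := by group
          _ = 1 := by rw [hc, e1]; group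
      obtain ⟨ι, hι1, hι'⟩ := exists_iota (F := F) (p := 2) (u := U) (h := H) hx (by rw [sq, eu])
        (fun i j => by simp [cj, e3]) (fun Φ hΦ _ hadd => by
          have e : minpoly (ZMod 2) x = X - C 1 := by
            rw [show x = algebraMap (ZMod 2) F 1 by simp [x, hg1], minpoly.eq_X_sub_C]
          have ea : ∀ b, Φ (X ^ b) = U := fun b => by
            rw [← X_comp (p := (X : (ZMod 2)[X]) ^ b), hΦ, wd_X, e3]; group
          have e' := hadd (X - C 1) 1
          rw [map_one, sub_add_cancel] at e'
          rw [e, map_one]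
          have ea0 := ea 0
          have ea1 := ea 1
          rw [pow_zero] at ea0
          rw [pow_one] at ea1
          rw [ea1, ea0] at e'
          exact right_eq_mul.1 e')
      have hW : W * H * W⁻¹ = H⁻¹ := by rw [e3]; group
      obtain ⟨hfin, hle⟩ := card_le (F := F) (pow_ne_zero 2 hg0) hι' hW
        (c := 0) (by rw [e1, zpow_zero]) (fun t ht => ⟨0, 1, 1, 1, 0, by
            obtain ⟨k, rfl⟩ := hgen t ht
            simp [hg1], by
            rw [hι1, zpow_zero, mul_one, e2, inv_eq_of_mul_eq_one_right e1]⟩)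
        (by
          rw [hι1, eq_top_iff, ← PresentedGroup.closure_range_of, Subgroup.closure_le]
          rintro _ ⟨i, rfl⟩
          apply Subgroup.subset_closure
          fin_cases i <;> simp [o, U, H, W, φ, PresentedGroup.of, PresentedGroup.mk])
        Nat.one_pos (by rw [pow_one, e3])
      refine ⟨hfin, hle.trans (le_of_eq ?_)⟩
      rw [card_SL2, hq2, hF2])⟩
  have hq : 3 ≤ Fintype.card F := by
    have := Fintype.one_lt_card (α := F); omega
  have hx1 : 1 + x ≠ 0 := by
    intro e
    rw [add_eq_zero_iff_eq_neg, neg_eq] at e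
    exact pow_ne_one_of_lt_orderOf (by norm_num) (hg ▸ (by
      rcases heven with ⟨m, hm⟩; omega : 2 < Fintype.card F - 1)) e.symm
  obtain ⟨a, ha⟩ := hsq _ hx1
  set m := minpoly (ZMod 2) x
  let L : List (FreeGroup (Fin 3)) := [o 2 * o 2, o 0 * o 2 * o 0 * (o 2 * o 0 * o 2)⁻¹,
    cj (o 0) (o 1) a * (o 0 * cj (o 0) (o 1) 1)⁻¹, wd (o 0) (o 1) m,
    stRel (o 0) (o 1) (o 2) (ft, fa, 1)]
  have hL : ∀ r ∈ L, FreeGroup.lift ![u, h, w] r = 1 := by
    intro r hr
    simp only [L, List.mem_cons, List.not_mem_nil, or_false] at hr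
    have e0 : FreeGroup.lift ![u, h, w] (o 0) = u := by simp [o]
    have e1 : FreeGroup.lift ![u, h, w] (o 1) = h := by simp [o]
    have e2 : FreeGroup.lift ![u, h, w] (o 2) = w := by simp [o]
    rcases hr with rfl | rfl | rfl | rfl | rfl
    · rw [map_mul, e2, hw2]
    · simp only [map_mul, map_inv, e0, e2]; exact hbr
    · simp only [cj, map_mul, map_inv, map_zpow, map_pow, e0, e1, zpow_natCast, zpow_one]
      rw [mul_inv_eq_one, pow_conj ιSL hι a 1, hι, ← map_mul, ← ofAdd_add]
      congr 2
      rw [mul_one, mul_one, ← ha]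
    · rw [map_wd, e0, e1, hwd, minpoly.aeval, ofAdd_zero, map_one]
    · rw [map_stRel, e0, e1, e2, stRel, hwd, hwd, hft, hfa, mul_inv_eq_one, pow_one]
      have e := wSL_ι (g⁻¹)
      simp only [inv_inv, neg_eq, Units.val_inv_eq_inv_val] at e
      exact e
  refine ⟨L, by simp [L], presents_of_bound L ![u, h, w] hL hgens (by
    set R : Set (FreeGroup (Fin 3)) := ↑L.toFinset with hRdef
    set φ := PresentedGroup.mk R
    have hR := hlift φ rfl
    set U := φ (o 0) with hU
    set H := φ (o 1) with hH
    set W := φ (o 2) with hW'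
    have e1 : W * W = 1 := by have := hR _ (List.mem_cons_self ..); rwa [map_mul] at this
    have e2 : U * W * U = W * U * W := by
      have := hR _ (List.mem_cons_of_mem _ (List.mem_cons_self ..))
      simp only [map_mul, map_inv] at this
      exact mul_inv_eq_one.1 this
    have eu : U * U = 1 := by
      have hc : (U * W) * U * (U * W)⁻¹ = W := by rw [e2]; group
      calc U * U = (U * W)⁻¹ * ((U * W) * U * (U * W)⁻¹ * ((U * W) * U * (U * W)⁻¹)) * (U * W) := by group
        _ = 1 := by rw [hc, e1]; group
    have eR : cj U H a = U * cj U H 1 := by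
      have := hR (cj (o 0) (o 1) a * (o 0 * cj (o 0) (o 1) 1)⁻¹) (by simp [L])
      simp only [cj, map_mul, map_inv, map_zpow] at this
      exact mul_inv_eq_one.1 this
    have em : wd U H m = 1 := by
      have := hR (wd (o 0) (o 1) m) (by simp [L])
      rwa [map_wd] at this
    have est : W * wd U H ft * W⁻¹ = wd U H fa * H ^ 1 * W * wd U H fa := by
      have := hR (stRel (o 0) (o 1) (o 2) (ft, fa, 1)) (by simp [L])
      rw [map_stRel] at this
      exact mul_inv_eq_one.1 this
    have hinvol : ∀ i, (cj U H i)⁻¹ = cj U H i := fun i => by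
      rw [cj, _root_.mul_inv_rev, _root_.mul_inv_rev, inv_inv, inv_eq_of_mul_eq_one_right eu,
        mul_assoc]
    have hc1 : Commute U (cj U H 1) := by
      have h0 := hinvol a
      rw [eR, _root_.mul_inv_rev, hinvol, inv_eq_of_mul_eq_one_right eu] at h0
      exact h0.symm
    have hk := commute_multiples hc1 eR
    have hcomm : ∀ i j : ℤ, Commute (cj U H i) (cj U H j) := fun i j => by
      simpa using commute_cj hk i j
    obtain ⟨ι, hι1, hι'⟩ := exists_iota (F := F) (p := 2) (u := U) (h := H) hx (by rw [sq, eu]) hcomm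
      (fun Φ hΦ _ _ => by
        have := hΦ 1 m
        rw [pow_one, comp_X, pow_one] at this
        rwa [this])
    have hwd' : ∀ f : (ZMod 2)[X], wd U H f = ι (ofAdd (aeval x f)) := fun f => by
      rw [← hι1]; exact wd_eq ι H x hι' f
    have hWi : W⁻¹ = W := inv_eq_of_mul_eq_one_right e1
    have hιinv : ∀ t, (ι (ofAdd t))⁻¹ = ι (ofAdd t) := fun t => by
      rw [← map_inv, ← ofAdd_neg, neg_eq]
    rw [hwd', hwd', hft, hfa, pow_one, hWi] at est
    have hHW : H * W = ι (ofAdd g0) * (W * ι (ofAdd g0⁻¹) * W) * ι (ofAdd g0) := by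
      rw [est]
      nth_rw 1 [← hιinv g0]
      nth_rw 4 [← hιinv g0]
      group
    have hWH : W * H * W⁻¹ = H⁻¹ := by
      have e : (H * W)⁻¹ = H * W := by
        rw [hHW]
        simp only [_root_.mul_inv_rev, hιinv, hWi, mul_assoc]
      calc W * H * W⁻¹ = W⁻¹ * (H * W) := by rw [hWi]; group
        _ = W⁻¹ * (H * W)⁻¹ := by rw [e]
        _ = H⁻¹ := by rw [_root_.mul_inv_rev, hWi, ← mul_assoc, e1, one_mul]
    set z := H ^ (Fintype.card F - 1) with hz
    have hxq : x ^ (Fintype.card F - 1) = 1 := FiniteField.pow_card_sub_one_eq_one x (pow_ne_zero 2 hg0)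
    have hzU : ∀ t, Commute z (ι (ofAdd t)) := fun t => by
      have := pow_conj ι hι' (Fintype.card F - 1) t
      rw [hxq, one_mul] at this
      exact mul_inv_eq_iff_eq_mul.1 this
    have hzW' : W * z * W⁻¹ = z⁻¹ := by rw [hz, ← conj_pow, hWH, inv_pow]
    have hzWUW : Commute z (W * U * W) := by
      have h' := ((hzU 1).inv_left).map (MulAut.conj W).toMonoidHom
      simp only [MulEquiv.toMonoidHom_eq_coe, MonoidHom.coe_coe, MulAut.conj_apply, hι1] at h'
      rw [show W * z⁻¹ * W⁻¹ = (W * z * W⁻¹)⁻¹ by group, hzW', inv_inv] at h'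
      · rwa [hWi] at h'
    have hWU : W = U * (W * U * W) * U := by
      rw [← e2]
      calc W = (U * U) * W * (U * U) := by rw [eu, one_mul, mul_one]
        _ = _ := by group
    have hzW : Commute z W := by
      have hu : Commute z U := hι1 ▸ hzU 1
      rw [hWU]
      exact (hu.mul_right hzWUW).mul_right hu
    have hz2 : z * z = 1 := by
      rw [← eq_inv_iff_mul_eq_one, ← hzW', ← hzW.eq, mul_inv_cancel_right]
    have htop : Subgroup.closure ({ι (ofAdd 1), H, W} : Set (PresentedGroup R)) = ⊤ := by
      rw [hι1, eq_top_iff, ← PresentedGroup.closure_range_of, Subgroup.closure_le]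
      rintro _ ⟨i, rfl⟩
      apply Subgroup.subset_closure
      fin_cases i <;> simp [o, U, H, W, φ, PresentedGroup.of, PresentedGroup.mk]
    obtain ⟨hfin, hle⟩ := card_le (F := F) (pow_ne_zero 2 hg0) hι' hWH (c := 0)
      (by rw [e1, zpow_zero]) (fun t ht => by
        obtain ⟨k, rfl⟩ := hsq t ht
        exact ⟨k, 1, 1, 1, 0, by rw [zpow_natCast, mul_one], by
          rw [hι1, zpow_zero, mul_one, hWi, e2]⟩)
      htop (N := 2 * (Fintype.card F - 1)) (by omega) (by rw [mul_comm, pow_mul, sq, hz2])
    haveI := hfin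
    refine ⟨hfin, ?_⟩
    by_contra hlt
    rw [not_le] at hlt
    let ψ : PresentedGroup R →* T := PresentedGroup.toGroup (f := ![u, h, w])
      (fun r hr => hL r (by simpa [hRdef] using hr))
    have hψ : ∀ i, ψ (φ (o i)) = ![u, h, w] i := fun i => PresentedGroup.toGroup.of _
    have hψι : ∀ t, ψ (ι (ofAdd t)) = ιSL (ofAdd t) := fun t => by
      obtain ⟨f, rfl⟩ := hsurj t
      rw [← hwd', map_wd, hψ 0, hψ 1]
      exact hwd f
    have hψsurj : Function.Surjective ψ := by
      rw [← MonoidHom.range_eq_top, eq_top_iff, ← hgens, Subgroup.closure_le]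
      rintro _ ⟨i, rfl⟩
      exact ⟨_, hψ i⟩
    have hψz : ψ z = 1 := by
      rw [hz, map_pow, hψ 1]
      show hSL g ^ _ = 1
      rw [← map_pow, show g ^ (Fintype.card F - 1) = 1 from Units.ext (by
        simpa [hg0def] using FiniteField.pow_card_sub_one_eq_one g0 hg0), map_one]
    have hzc : z ∈ Subgroup.center (PresentedGroup R) := by
      rw [Subgroup.mem_center_iff]
      intro y
      have hy : y ∈ Subgroup.closure ({ι (ofAdd 1), H, W} : Set (PresentedGroup R)) :=
        htop ▸ Subgroup.mem_top y
      refine Subgroup.closure_induction (p := fun y _ => y * z = z * y) ?_ (by group) ?_ ?_ hy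
      · rintro s (rfl | rfl | rfl)
        · exact (hzU 1).eq.symm
        · exact (Commute.self_pow H _).eq
        · exact hzW.eq.symm
      · intro a b _ _ ea eb; rw [mul_assoc, eb, ← mul_assoc, ea, mul_assoc]
      · intro a _ ea; exact (Commute.inv_left (show Commute a z from ea)).eq
    by_cases hz1 : z = 1
    · have := (card_le (F := F) (pow_ne_zero 2 hg0) hι' hWH (c := 0)
        (by rw [e1, zpow_zero]) (fun t ht => by
          obtain ⟨k, rfl⟩ := hsq t ht
          exact ⟨k, 1, 1, 1, 0, by rw [zpow_natCast, mul_one], by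
            rw [hι1, zpow_zero, mul_one, hWi, e2]⟩)
        htop (N := Fintype.card F - 1) (by omega) hz1).2
      rw [card_SL2, ← mul_assoc, hq2] at hlt
      rw [hq2] at this
      omega
    · refine hz1 ?_
      let e : Multiplicative F × Subgroup.zpowers z →* PresentedGroup R :=
        MonoidHom.noncommCoprod ι (Subgroup.zpowers z).subtype (fun a b => by
          obtain ⟨i, hi⟩ := b.2
          show Commute (ι a) (b : PresentedGroup R)
          rw [← hi]
          exact ((hzU (Multiplicative.toAdd a)).zpow_left i).symm)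
      have hord : Nat.card (Subgroup.zpowers z) = 2 := by
        rw [Nat.card_zpowers]
        exact orderOf_eq_prime (by rw [sq, hz2]) hz1
      have hker : ∀ b : Subgroup.zpowers z, ψ b = 1 := by
        rintro ⟨b, i, rfl⟩
        show ψ (z ^ i) = 1
        rw [map_zpow, hψz, one_zpow]
      have hinj : Function.Injective e := by
        rw [injective_iff_map_eq_one]
        rintro ⟨a, b⟩ hab
        have h1 : ψ (ι a) = 1 := by
          have := congrArg ψ hab
          rw [MonoidHom.noncommCoprod_apply, map_mul, map_one, Subgroup.coe_subtype, hker, mul_one] at this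
          exact this
        have ha : a = 1 := by
          have h2 := (hψι (Multiplicative.toAdd a)).symm.trans h1
          have h3 := congrArg (fun A : T => A.1 0 1) h2
          simp only [ιSL_val] at h3
          simpa using h3
        subst ha
        rw [MonoidHom.noncommCoprod_apply, map_one, one_mul] at hab
        exact Prod.ext rfl (Subtype.ext hab)
      have hP : Nat.card e.range = 2 * Fintype.card F := by
        rw [← Nat.card_congr (MonoidHom.ofInjective hinj).toEquiv, Nat.card_prod, hord,
          Nat.card_congr Multiplicative.toAdd, hq2, mul_comm]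
      have hG : Nat.card (PresentedGroup R) = 2 * Nat.card T := by
        have hk : 2 ∣ Nat.card ψ.ker := (dvd_of_eq hord.symm).trans <|
          Subgroup.card_dvd_of_le (Subgroup.zpowers_le.2 (show z ∈ ψ.ker from hψz))
        have hmul : Nat.card ψ.ker * Nat.card T = Nat.card (PresentedGroup R) := by
          rw [← Subgroup.card_mul_index ψ.ker, Subgroup.index_ker, MonoidHom.range_eq_top.2 hψsurj,
            Subgroup.card_top]
        obtain ⟨j, hj⟩ := hk
        have hle' : Nat.card (PresentedGroup R) ≤ 2 * Nat.card T := by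
          refine hle.trans (le_of_eq ?_)
          rw [card_SL2, hq2]; ring
        have hj1 : j = 1 := by
          rw [hj] at hmul
          have : 0 < Nat.card T := Nat.card_pos
          rcases j with - | - | j
          · rw [mul_zero, zero_mul] at hmul
            exact absurd hmul.symm Nat.card_pos.ne'
          · rfl
          · nlinarith
        rw [← hmul, hj, hj1, mul_one]
      refine eq_one_of_transfer hzc hz2 e.range ?_ ⟨(1, ⟨z, Subgroup.mem_zpowers z⟩), ?_⟩ ?_ ?_
      · exact ⟨⟨fun a b => Subtype.ext (by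
          obtain ⟨a', ha'⟩ := a.2
          obtain ⟨b', hb'⟩ := b.2
          show (a : PresentedGroup R) * b = b * a
          rw [← ha', ← hb', ← map_mul, ← map_mul]
          congr 1
          refine Prod.ext (mul_comm _ _) (Subtype.ext ?_)
          obtain ⟨i, hi⟩ := a'.2.2
          obtain ⟨j, hj⟩ := b'.2.2
          show (a'.2 : PresentedGroup R) * b'.2 = b'.2 * a'.2
          rw [← hi, ← hj]
          exact (Commute.zpow_zpow_self z i j).eq)⟩⟩
      · rw [MonoidHom.noncommCoprod_apply, map_one, one_mul]; rfl
      · have hmul := e.range.card_mul_index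
        rw [hG, hP, card_SL2, hq2] at hmul
        have hidx : e.range.index = (Fintype.card F + 1) * (Fintype.card F - 1) :=
          Nat.eq_of_mul_eq_mul_left (show 0 < 2 * Fintype.card F by omega)
            (hmul.trans (by ring))
        rw [hidx, Nat.odd_mul]
        obtain ⟨k, hk⟩ := heven
        exact ⟨⟨k, by omega⟩, ⟨k - 1, by omega⟩⟩
      · intro A _ χ
        have cUW : χ U = χ W := by
          have := congrArg χ e2
          simp only [map_mul] at this
          rw [mul_comm (χ W) (χ U)] at this
          exact mul_left_cancel this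
        have cj' : ∀ i, χ (cj U H i) = χ U := fun i => by
          rw [cj, map_mul, map_mul, map_inv, mul_right_comm, mul_inv_cancel, one_mul]
        have cU : χ U = 1 := by
          have := congrArg χ eR
          rw [map_mul, cj', cj'] at this
          exact right_eq_mul.1 this
        have cι : ∀ t, χ (ι (ofAdd t)) = 1 := fun t => by
          obtain ⟨f, rfl⟩ := hsurj t
          rw [← hwd', wd, map_list_prod]
          refine List.prod_eq_one fun y hy => ?_
          rw [List.map_map, List.mem_map] at hy
          obtain ⟨i, -, rfl⟩ := hy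
          simp [cU]
        have cH : χ H = 1 := by
          have := congrArg χ hHW
          simpa [← cUW, cU, cι] using this
        refine PresentedGroup.ext fun i => ?_
        show χ (φ (o i)) = 1
        fin_cases i
        · exact cU
        · exact cH
        · exact cUW ▸ cU)⟩

/-- in characteristic two, five relations -/
theorem even_presentation :
    ∃ rels : Finset (FreeGroup (Fin 3)), rels.card ≤ 5 ∧
      Nonempty (PresentedGroup (↑rels : Set (FreeGroup (Fin 3))) ≃*
        Matrix.SpecialLinearGroup (Fin 2) F) := by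
  classical
  obtain ⟨g0, hg0, hg, hgen⟩ := exists_generator (F := F)
  obtain ⟨L, hlen, hP⟩ := even_presents (g := Units.mk0 g0 hg0) hg hgen
  obtain ⟨rels, hr, he⟩ := hP.exists_pres
  exact ⟨rels, hr.trans hlen, he⟩

end CfsgLib.SL2Pres
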