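import Cfsg.Agent.SL2Pres.Cells
import Cfsg.Agent.StPres.Rank1
import Mathlib.GroupTheory.PresentedGroup

/-!
The images of the generators in `SL₂`.
-/

set_option autoImplicit false
set_option linter.style.haveILetI false

namespace CfsgLib.SL2Pres

open Matrix
open Multiplicative (ofAdd)

variable {F : Type*} [Field F]

local notation "S2" => SpecialLinearGroup (Fin 2) F

/-- the root group -/
def ιSL : Multiplicative F →* SpecialLinearGroup (Fin 2) F where
  toFun t := StPres.up (Multiplicative.toAdd t)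
  map_one' := Subtype.ext (by simp [StPres.up, Matrix.one_fin_two])
  map_mul' a b := Subtype.ext (by
    rw [SpecialLinearGroup.coe_mul]
    ext i j
    fin_cases i <;> fin_cases j <;>
      simp [StPres.up, Matrix.mul_apply, Fin.sum_univ_two, add_comm])

/-- the torus -/
def hSL : Fˣ →* SpecialLinearGroup (Fin 2) F where
  toFun g := ⟨!![(g : F), 0; 0, ((g⁻¹ : Fˣ) : F)], by simp [Matrix.det_fin_two_of]⟩
  map_one' := Subtype.ext (by simp [Matrix.one_fin_two])
  map_mul' a b := Subtype.ext (by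
    show !![((a * b : Fˣ) : F), 0; 0, (((a * b)⁻¹ : Fˣ) : F)] =
      !![(a : F), 0; 0, ((a⁻¹ : Fˣ) : F)] * !![(b : F), 0; 0, ((b⁻¹ : Fˣ) : F)]
    ext i j
    fin_cases i <;> fin_cases j <;> simp [Matrix.mul_apply, Fin.sum_univ_two, mul_comm])

/-- the Weyl element -/
def wSL : SpecialLinearGroup (Fin 2) F := ⟨!![0, 1; -1, 0], by simp [Matrix.det_fin_two_of]⟩

theorem ιSL_val (t : F) : (ιSL (ofAdd t)).1 = !![1, t; 0, 1] := rfl

theorem hSL_val (g : Fˣ) : (hSL g).1 = !![(g : F), 0; 0, ((g⁻¹ : Fˣ) : F)] := rfl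

theorem wSL_val : (wSL : S2).1 = !![0, 1; -1, 0] := rfl

theorem hSL_conj (g : Fˣ) (t : F) :
    hSL g * ιSL (ofAdd t) * (hSL g)⁻¹ = ιSL (ofAdd ((g : F) ^ 2 * t)) := by
  rw [mul_inv_eq_iff_eq_mul]
  refine Subtype.ext ?_
  simp only [SpecialLinearGroup.coe_mul, ιSL_val, hSL_val]
  ext i j
  fin_cases i <;> fin_cases j <;> simp [Matrix.mul_apply, Fin.sum_univ_two] <;> field_simp

theorem wSL_sq : (wSL : S2) * wSL = hSL (-1) := by
  refine Subtype.ext ?_
  simp only [SpecialLinearGroup.coe_mul, hSL_val, wSL_val]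
  ext i j
  fin_cases i <;> fin_cases j <;> simp [Matrix.mul_apply, Fin.sum_univ_two]

theorem wSL_conj (g : Fˣ) : wSL * hSL g * (wSL : S2)⁻¹ = (hSL g)⁻¹ := by
  rw [mul_inv_eq_iff_eq_mul, ← map_inv]
  refine Subtype.ext ?_
  simp only [SpecialLinearGroup.coe_mul, hSL_val, wSL_val]
  ext i j
  fin_cases i <;> fin_cases j <;> simp [Matrix.mul_apply, Fin.sum_univ_two]

theorem wSL_ι (t : Fˣ) : wSL * ιSL (ofAdd (t : F)) * (wSL : S2)⁻¹ =
    ιSL (ofAdd (-((t⁻¹ : Fˣ) : F))) * hSL t⁻¹ * wSL * ιSL (ofAdd (-((t⁻¹ : Fˣ) : F))) := by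
  rw [mul_inv_eq_iff_eq_mul]
  refine Subtype.ext ?_
  simp only [SpecialLinearGroup.coe_mul, ιSL_val, hSL_val, wSL_val]
  ext i j
  fin_cases i <;> fin_cases j <;> simp [Matrix.mul_apply, Fin.sum_univ_two]

theorem wSL_low (t : F) : wSL * ιSL (ofAdd (-t)) * (wSL : S2)⁻¹ = StPres.low t := by
  rw [mul_inv_eq_iff_eq_mul]
  refine Subtype.ext ?_
  simp only [SpecialLinearGroup.coe_mul, ιSL_val, wSL_val,
    show (StPres.low t).1 = !![1, 0; t, 1] from rfl]
  ext i j
  fin_cases i <;> fin_cases j <;> simp [Matrix.mul_apply, Fin.sum_univ_two]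

/-- the images generate -/
theorem closure_images {T : Type*} [Group T] (π : S2 →* T) (hπ : Function.Surjective π) {K : Subgroup T}
    (hι : ∀ t : F, π (ιSL (ofAdd t)) ∈ K) (hw : π wSL ∈ K) : K = ⊤ := by
  rw [eq_top_iff]
  intro y _
  obtain ⟨g, rfl⟩ := hπ y
  obtain ⟨a, b, c, d, rfl⟩ := StPres.exists_word g
  have hup : ∀ t : F, π (StPres.up t) ∈ K := hι
  have hlow : ∀ t : F, π (StPres.low t) ∈ K := fun t => by
    rw [← wSL_low, map_mul, map_mul, map_inv]
    exact mul_mem (mul_mem hw (hι _)) (inv_mem hw)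
  rw [map_mul, map_mul, map_mul]
  exact mul_mem (mul_mem (mul_mem (hup a) (hlow b)) (hup c)) (hlow d)

/-- the list presents `T` on the elements `f` -/
def Presents {α : Type} [DecidableEq (FreeGroup α)] {T : Type*} [Group T] (L : List (FreeGroup α))
    (f : α → T) : Prop :=
  ∃ φ : PresentedGroup (↑L.toFinset : Set (FreeGroup α)) ≃* T, ∀ i, φ (PresentedGroup.of i) = f i

theorem Presents.exists_pres {α : Type} {_ : DecidableEq (FreeGroup α)} {T : Type*} [Group T]
    {L : List (FreeGroup α)} {f : α → T} (hP : Presents L f) :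
    ∃ rels : Finset (FreeGroup α), rels.card ≤ L.length ∧
      Nonempty (PresentedGroup (↑rels : Set (FreeGroup α)) ≃* T) :=
  hP.elim fun φ _ => ⟨L.toFinset, List.toFinset_card_le L, ⟨φ⟩⟩

theorem Presents.exists_hom {α : Type} {_ : DecidableEq (FreeGroup α)} {T G : Type*} [Group T] [Group G]
    {L : List (FreeGroup α)} {f : α → T} (hP : Presents L f) (f' : α → G)
    (h : ∀ r ∈ L, FreeGroup.lift f' r = 1) : ∃ φ : T →* G, ∀ i, φ (f i) = f' i := by
  obtain ⟨e, he⟩ := hP
  let ψ : PresentedGroup (↑L.toFinset : Set (FreeGroup α)) →* G :=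
    PresentedGroup.toGroup (f := f') fun r hr => h r (by simpa using hr)
  refine ⟨ψ.comp e.symm.toMonoidHom, fun i => ?_⟩
  show ψ (e.symm (f i)) = _
  rw [← he, e.symm_apply_apply]
  exact PresentedGroup.toGroup.of _

theorem Presents.rel {α : Type} {_ : DecidableEq (FreeGroup α)} {T : Type*} [Group T]
    {L : List (FreeGroup α)} {f : α → T} (hP : Presents L f) : ∀ r ∈ L, FreeGroup.lift f r = 1 := by
  obtain ⟨e, he⟩ := hP
  intro r hr
  have : FreeGroup.lift f =
      e.toMonoidHom.comp (PresentedGroup.mk (↑L.toFinset : Set (FreeGroup α))) :=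
    FreeGroup.ext_hom _ _ fun i => by rw [FreeGroup.lift_apply_of]; exact (he i).symm
  rw [this, MonoidHom.comp_apply, PresentedGroup.one_of_mem (by simpa using hr), map_one]

/-- a bounded presented group mapping onto a finite group of that order -/
theorem presents_of_bound {α : Type} {T : Type*} [Group T] [Finite T] (L : List (FreeGroup α))
    [DecidableEq (FreeGroup α)] (f : α → T) (h1 : ∀ r ∈ L, FreeGroup.lift f r = 1)
    (hs : Subgroup.closure (Set.range f) = ⊤)
    (hb : Finite (PresentedGroup (↑L.toFinset : Set (FreeGroup α))) ∧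
      Nat.card (PresentedGroup (↑L.toFinset : Set (FreeGroup α))) ≤ Nat.card T) :
    Presents L f := by
  haveI := hb.1
  let φ := PresentedGroup.toGroup (rels := (↑L.toFinset : Set (FreeGroup α))) (f := f)
    (fun r hr => h1 r (by simpa using hr))
  have hsurj : Function.Surjective φ := by
    rw [← MonoidHom.range_eq_top, eq_top_iff, ← hs, Subgroup.closure_le]
    rintro _ ⟨i, rfl⟩
    exact ⟨PresentedGroup.of i, PresentedGroup.toGroup.of _⟩
  have hbij : Function.Bijective φ :=
    (Nat.bijective_iff_surjective_and_card φ).2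
      ⟨hsurj, le_antisymm hb.2 (Nat.card_le_card_of_surjective φ hsurj)⟩
  exact ⟨MulEquiv.ofBijective φ hbij, fun i =>
    (rfl : MulEquiv.ofBijective φ hbij (PresentedGroup.of i) = φ (PresentedGroup.of i)).trans
      (PresentedGroup.toGroup.of (rels := (↑L.toFinset : Set (FreeGroup α))) (f := f)
        fun r hr => h1 r (by simpa using hr))⟩

end CfsgLib.SL2Pres
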