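import Cfsg.Agent.SL2Pres.Param
import Cfsg.Agent.SL2Pres.Target

/-!
Short presentations in odd characteristic.
-/

set_option autoImplicit false
set_option linter.style.haveILetI false

namespace CfsgLib.SL2Pres

open Polynomial
open Multiplicative (ofAdd)

universe v

variable {p : ℕ}

/-- Steinberg's relation at one element -/
noncomputable def stRel {G : Type*} [Group G] (u h w : G) (s : (ZMod p)[X] × (ZMod p)[X] × ℕ) : G :=
  w * wd u h s.1 * w⁻¹ * (wd u h s.2.1 * h ^ s.2.2 * w * wd u h s.2.1)⁻¹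

/-- the common relators in odd characteristic -/
noncomputable def oddRels {G : Type*} [Group G] (CR : List (FreeGroup (Fin 2))) (P : (ZMod p)[X])
    (b : ℕ) (S : List ((ZMod p)[X] × (ZMod p)[X] × ℕ)) (u h w : G) : List G :=
  CR.map (FreeGroup.lift ![u, h]) ++
    ([u ^ p, cj u h 1 * (wd u (h ^ b) P)⁻¹, w * h * w⁻¹ * h] ++ S.map (stRel u h w))

theorem map_stRel {G H : Type*} [Group G] [Group H] (φ : G →* H) (u h w : G)
    (s : (ZMod p)[X] × (ZMod p)[X] × ℕ) : φ (stRel u h w s) = stRel (φ u) (φ h) (φ w) s := by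
  simp [stRel, map_wd]

theorem map_oddRels {G H : Type*} [Group G] [Group H] (φ : G →* H) (CR : List (FreeGroup (Fin 2)))
    (P : (ZMod p)[X]) (b : ℕ) (S : List ((ZMod p)[X] × (ZMod p)[X] × ℕ)) (u h w : G) :
    (oddRels CR P b S u h w).map φ = oddRels CR P b S (φ u) (φ h) (φ w) := by
  have hv : φ ∘ ![u, h] = ![φ u, φ h] := by
    funext i; fin_cases i <;> rfl
  have hcr : ∀ r : FreeGroup (Fin 2), φ (FreeGroup.lift ![u, h] r) = FreeGroup.lift ![φ u, φ h] r := by
    intro r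
    have : φ.comp (FreeGroup.lift ![u, h]) = FreeGroup.lift ![φ u, φ h] :=
      FreeGroup.ext_hom _ _ fun i => by simp [← congrFun hv i]
    exact DFunLike.congr_fun this r
  simp [oddRels, List.map_append, List.map_map, Function.comp_def, map_stRel, map_wd, hcr, cj]

theorem pow_conj {K T : Type*} [Field K] [Group T] (ι : Multiplicative K →* T) {h : T} {x : K}
    (hh : ∀ t, h * ι (ofAdd t) * h⁻¹ = ι (ofAdd (x * t))) (b : ℕ) (t : K) :
    h ^ b * ι (ofAdd t) * (h ^ b)⁻¹ = ι (ofAdd (x ^ b * t)) := by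
  induction b with
  | zero => simp
  | succ b ih => rw [pow_succ' h, pow_succ' x, mul_assoc x, ← hh, ← ih]; group

variable [Fact p.Prime] {F : Type v} [Field F] [Fintype F] [Algebra (ZMod p) F]

/-- the field acting on the conjugates -/
theorem exists_iota_odd {G : Type*} [Group G] {g : F} (hx : Algebra.adjoin (ZMod p) {g ^ 2} = ⊤)
    {P : (ZMod p)[X]} {b : ℕ}
    (hP : ∀ ξ : F, ξ ≠ 0 → aeval (ξ ^ b) P = ξ → aeval ξ (minpoly (ZMod p) (g ^ 2)) = 0) {u h : G}
    (hk : ∀ k : ℤ, Commute u (cj u h (k * b))) (hu : u ^ p = 1) (h1 : cj u h 1 = wd u (h ^ b) P)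
    (hq : h ^ (Fintype.card F - 1) = 1) {N : ℕ} (hN : 0 < N) (hper : h ^ N = 1) :
    ∃ ι : Multiplicative F →* G, ι (ofAdd 1) = u ∧
      ∀ t : F, h * ι (ofAdd t) * h⁻¹ = ι (ofAdd (g ^ 2 * t)) := by
  have hcomm := commute_all hk hN hper h1
  exact exists_iota (F := F) hx hu hcomm (fun Φ hΦ hmul hadd => by
    obtain ⟨r, s, e⟩ := exists_combination (x := g ^ 2) hP
    have hA : Φ (X ^ (Fintype.card F - 1) - 1) = 1 := by
      have e1 := hadd (X ^ (Fintype.card F - 1) - 1) 1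
      rw [sub_add_cancel] at e1
      have ea : Φ (X ^ (Fintype.card F - 1)) = u := by
        rw [← X_comp (p := (X : (ZMod p)[X]) ^ (Fintype.card F - 1)), hΦ, wd_X, hq]
        group
      have eb : Φ 1 = u := by
        have := hΦ 0 X
        rw [X_comp, pow_zero, wd_X] at this
        rw [this]; group
      rw [ea, eb] at e1
      exact right_eq_mul.1 e1
    have hB : Φ (P.comp (X ^ b) - X) = 1 := by
      have e1 := hadd (P.comp (X ^ b) - X) X
      rw [sub_add_cancel, hΦ, ← h1] at e1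
      have ea : Φ X = cj u h 1 := by
        have := hΦ 1 X
        rw [X_comp, pow_one, pow_one, wd_X] at this
        rw [this, cj, zpow_one]
      rw [ea] at e1
      exact right_eq_mul.1 e1
    rw [e, hadd, hmul _ r hA, hmul _ s hB, mul_one])

/-- the size of a group with these relations -/
theorem odd_bound {G : Type*} [Group G] {g : F} (hg0 : g ≠ 0)
    (hgen : ∀ t : F, t ≠ 0 → ∃ k : ℕ, t = g ^ k) (hx : Algebra.adjoin (ZMod p) {g ^ 2} = ⊤)
    {CR : List (FreeGroup (Fin 2))} {P : (ZMod p)[X]} {b : ℕ}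
    (hP : ∀ ξ : F, ξ ≠ 0 → aeval (ξ ^ b) P = ξ → aeval ξ (minpoly (ZMod p) (g ^ 2)) = 0)
    (hCR : ∀ u h : G, u ^ p = 1 → (∀ r ∈ CR, FreeGroup.lift ![u, h] r = 1) →
      ∀ k : ℤ, Commute u (cj u h (k * b)))
    {S : List ((ZMod p)[X] × (ZMod p)[X] × ℕ)}
    (hS1 : ∃ s ∈ S, aeval (g ^ 2) s.1 = (1 : F)) (hSg : ∃ s ∈ S, aeval (g ^ 2) s.1 = g)
    {u h w : G} (hrel : ∀ r ∈ oddRels CR P b S u h w, r = 1) {c : ℤ} (hc : w * w = h ^ c)
    (hq : h ^ (Fintype.card F - 1) = 1) {N : ℕ} (hN : 0 < N) (hper : h ^ N = 1)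
    (htop : Subgroup.closure ({u, h, w} : Set G) = ⊤) :
    Finite G ∧ Nat.card G ≤ Nat.card F * (Nat.card F + 1) * N := by
  have hu : u ^ p = 1 := hrel _ (by simp [oddRels])
  have h1 : cj u h 1 = wd u (h ^ b) P := mul_inv_eq_one.1 (hrel _ (by simp [oddRels]))
  have hw : w * h * w⁻¹ = h⁻¹ := eq_inv_of_mul_eq_one_left (hrel _ (by simp [oddRels]))
  have hst : ∀ s ∈ S, w * wd u h s.1 * w⁻¹ = wd u h s.2.1 * h ^ s.2.2 * w * wd u h s.2.1 :=
    fun s hs => mul_inv_eq_one.1 (hrel (stRel u h w s) (by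
      simp only [oddRels, List.mem_append, List.mem_map]
      exact Or.inr (Or.inr ⟨s, hs, rfl⟩)))
  have hk := hCR u h hu fun r hr => hrel _ (by
    simp only [oddRels, List.mem_append, List.mem_map]
    exact Or.inl ⟨r, hr, rfl⟩)
  obtain ⟨ι, hι1, hι⟩ := exists_iota_odd hx hP hk hu h1 hq hN hper
  have hwd : ∀ f : (ZMod p)[X], wd u h f = ι (ofAdd (aeval (g ^ 2) f)) := fun f => by
    rw [← hι1]; exact wd_eq ι h (g ^ 2) hι f
  refine card_le (pow_ne_zero 2 hg0) hι hw hc (fun t ht => ?_) (by rwa [hι1]) hN hper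
  obtain ⟨k, rfl⟩ := hgen t ht
  rcases Nat.even_or_odd' k with ⟨i, rfl | rfl⟩
  · obtain ⟨s, hs, e⟩ := hS1
    have := hst s hs
    rw [hwd, hwd, e, ← zpow_natCast h s.2.2] at this
    exact ⟨i, 1, _, _, _, by rw [zpow_natCast, ← pow_mul, mul_one], this⟩
  · obtain ⟨s, hs, e⟩ := hSg
    have := hst s hs
    rw [hwd, hwd, e, ← zpow_natCast h s.2.2] at this
    exact ⟨i, g, _, _, _, by rw [zpow_natCast, ← pow_mul, pow_succ], this⟩

/-- relations making the multiples of a suitable exponent commute -/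
theorem exists_comm_rels {n : ℕ} (hn : Fintype.card F = p ^ n) (h2 : (2 : F) ≠ 0) {g : F}
    (hg : orderOf g = Fintype.card F - 1) (hgen : ∀ t : F, t ≠ 0 → ∃ k : ℕ, t = g ^ k) :
    ∃ (b : ℕ) (CR : List (FreeGroup (Fin 2))), CR.length ≤ 2 ∧
      Algebra.adjoin (ZMod p) {(g ^ 2) ^ b} = ⊤ ∧
      (∀ (T : Type v) [Group T] (ι : Multiplicative F →* T) (h : T),
        (∀ t, h * ι (ofAdd t) * h⁻¹ = ι (ofAdd (g ^ 2 * t))) →
        ∀ r ∈ CR, FreeGroup.lift ![ι (ofAdd 1), h] r = 1) ∧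
      ∀ (G : Type) [Group G] (u h : G), u ^ p = 1 → (∀ r ∈ CR, FreeGroup.lift ![u, h] r = 1) →
        ∀ k : ℤ, Commute u (cj u h (k * b)) := by
  have hcj : ∀ (T : Type v) [Group T] (ι : Multiplicative F →* T) (h : T),
      (∀ t, h * ι (ofAdd t) * h⁻¹ = ι (ofAdd (g ^ 2 * t))) → ∀ i : ℕ,
      cj (ι (ofAdd 1)) h i = ι (ofAdd ((g ^ 2) ^ i)) := by
    intro T _ ι h hh i
    rw [cj_natCast]
    have := wd_eq (p := p) ι (h ^ i) ((g ^ 2) ^ i) (fun t => by
      induction i with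
      | zero => simp
      | succ i ih =>
        rw [pow_succ' h, pow_succ' (g ^ 2), mul_assoc ((g : F) ^ 2), ← hh, ← ih]
        group) X
    rwa [wd_X, aeval_X] at this
  by_cases hn2 : n ≤ 1
  · refine ⟨0, [], by simp, adjoin_eq_top hn fun k hk hkn hlt => ?_, fun T _ ι h _ => by simp,
      fun G _ u h _ _ k => by simp [cj_zero]⟩
    omega
  by_cases h9 : Fintype.card F = 9
  · let o : FreeGroup (Fin 2) := FreeGroup.of 0
    let t : FreeGroup (Fin 2) := FreeGroup.of 1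
    refine ⟨1, [o * cj o t 1 * o⁻¹ * (cj o t 1)⁻¹, cj o t 2 * o], by simp, ?_, ?_, ?_⟩
    · rw [pow_one]; exact adjoin_sq hn hg
    · intro T _ ι h hh r hr
      have e0 : FreeGroup.lift ![ι (ofAdd 1), h] o = ι (ofAdd 1) := by simp [o]
      have e1 : FreeGroup.lift ![ι (ofAdd 1), h] t = h := by simp [t]
      have ec : ∀ i : ℕ, FreeGroup.lift ![ι (ofAdd 1), h] (cj o t i) = ι (ofAdd ((g ^ 2) ^ i)) :=
        fun i => by rw [← hcj T ι h hh i, cj_natCast, cj_natCast, map_mul, map_mul, map_inv, map_pow, e0, e1]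
      simp only [List.mem_cons, List.not_mem_nil, or_false] at hr
      rcases hr with rfl | rfl
      · rw [map_mul, map_mul, map_mul, map_inv, map_inv, e0, show (1 : ℤ) = ((1 : ℕ) : ℤ) from rfl, ec,
          mul_inv_eq_one, ← map_inv, ← map_mul, ← map_mul, ← ofAdd_neg, ← ofAdd_add, ← ofAdd_add]
        congr 2
        ring
      · rw [map_mul, e0, show (2 : ℤ) = ((2 : ℕ) : ℤ) from rfl, ec, ← map_mul, ← ofAdd_add]
        have hq1 : g ^ 4 = -1 := by
          have h8 : g ^ 8 = 1 := by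
            rw [show 8 = orderOf g by omega]; exact pow_orderOf_eq_one g
          rcases mul_self_eq_one_iff.1 (show g ^ 4 * g ^ 4 = 1 by rw [← pow_add]; exact h8) with e | e
          · exact absurd e (pow_ne_one_of_lt_orderOf (by omega) (by omega))
          · exact e
        rw [← pow_mul, hq1, neg_add_cancel]
        exact map_one ι
    · intro G _ u h _ hr
      have e1 : Commute u (cj u h 1) := by
        have := hr _ (List.mem_cons_self ..)
        simp only [map_mul, map_inv, o, t, cj, map_zpow, FreeGroup.lift_apply_of,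
          Matrix.cons_val_zero, Matrix.cons_val_one] at this
        exact eq_mul_of_mul_inv_eq (mul_inv_eq_one.1 this)
      have e2 : cj u h 2 = u⁻¹ := by
        have := hr _ (List.mem_cons_of_mem _ (List.mem_cons_self ..))
        simp only [map_mul, map_inv, o, t, cj, map_zpow, FreeGroup.lift_apply_of,
          Matrix.cons_val_zero, Matrix.cons_val_one] at this
        exact eq_inv_of_mul_eq_one_left this
      have hstep : ∀ k : ℤ, cj u h (k + 2) = (cj u h k)⁻¹ := fun k => by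
        rw [cj_shift, e2, cj]; group
      have key : ∀ k : ℤ, Commute u (cj u h k) ∧ Commute u (cj u h (k + 1)) := by
        intro k
        induction k using Int.induction_on with
        | zero => exact ⟨by rw [cj_zero], by rwa [zero_add]⟩
        | succ n ih => exact ⟨ih.2, by rw [add_assoc, show (1 : ℤ) + 1 = 2 from rfl, hstep]; exact ih.1.inv_right⟩
        | pred n ih =>
          refine ⟨?_, by rw [sub_add_cancel]; exact ih.1⟩
          have := hstep (-(n : ℤ) - 1)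
          rw [show -(n : ℤ) - 1 + 2 = -(n : ℤ) + 1 by ring] at this
          rw [← inv_inv (cj u h (-(n : ℤ) - 1)), ← this]
          exact ih.2.inv_right
      intro k
      simpa using (key (k * ((1 : ℕ) : ℤ))).1
  · obtain ⟨a, b, hb, hab⟩ := exists_pair hn (by omega) h2 h9 hg hgen
    let o : FreeGroup (Fin 2) := FreeGroup.of 0
    let t : FreeGroup (Fin 2) := FreeGroup.of 1
    refine ⟨b, [o * cj o t b * o⁻¹ * (cj o t b)⁻¹, cj o t a * (o * cj o t b)⁻¹], by simp, hb, ?_, ?_⟩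
    · intro T _ ι h hh r hr
      have e0 : FreeGroup.lift ![ι (ofAdd 1), h] o = ι (ofAdd 1) := by simp [o]
      have e1 : FreeGroup.lift ![ι (ofAdd 1), h] t = h := by simp [t]
      have ec : ∀ i : ℕ, FreeGroup.lift ![ι (ofAdd 1), h] (cj o t i) = ι (ofAdd ((g ^ 2) ^ i)) :=
        fun i => by rw [← hcj T ι h hh i, cj_natCast, cj_natCast, map_mul, map_mul, map_inv, map_pow, e0, e1]
      simp only [List.mem_cons, List.not_mem_nil, or_false] at hr
      rcases hr with rfl | rfl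
      · rw [map_mul, map_mul, map_mul, map_inv, map_inv, e0, ec, mul_inv_eq_one, ← map_inv, ← map_mul,
          ← map_mul, ← ofAdd_neg, ← ofAdd_add, ← ofAdd_add]
        congr 2
        ring
      · rw [map_mul, map_inv, map_mul, e0, ec, ec, mul_inv_eq_one, ← map_mul, ← ofAdd_add, hab]
    · intro G _ u h _ hr
      refine commute_multiples (a := (a : ℤ)) ?_ ?_
      · have := hr _ (List.mem_cons_self ..)
        simp only [map_mul, map_inv, o, t, cj, map_zpow, FreeGroup.lift_apply_of,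
          Matrix.cons_val_zero, Matrix.cons_val_one] at this
        exact eq_mul_of_mul_inv_eq (mul_inv_eq_one.1 this)
      · have := hr _ (List.mem_cons_of_mem _ (List.mem_cons_self ..))
        simp only [map_mul, map_inv, o, t, cj, map_zpow, FreeGroup.lift_apply_of,
          Matrix.cons_val_zero, Matrix.cons_val_one] at this
        exact mul_inv_eq_one.1 this

open scoped Classical in
/-- the relators presenting an image of `SL₂` in odd characteristic -/
theorem odd_presents (p : ℕ) [Fact p.Prime] [Algebra (ZMod p) F] {T : Type v} [Group T] [Finite T]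
    (π : Matrix.SpecialLinearGroup (Fin 2) F →* T) (hπ : Function.Surjective π) (h2 : (2 : F) ≠ 0)
    {g : Fˣ} (hg : orderOf (g : F) = Fintype.card F - 1)
    (hgen : ∀ t : F, t ≠ 0 → ∃ k : ℕ, t = (g : F) ^ k) (Z : List (FreeGroup (Fin 3)))
    (hZ : ∀ r ∈ Z, FreeGroup.lift ![π (ιSL (ofAdd 1)), π (hSL g), π wSL] r = 1) {N : ℕ} (hN : 0 < N)
    (hZG : ∀ (G : Type) [Group G] (u h w : G), w * h * w⁻¹ = h⁻¹ →
      (∀ r ∈ Z, FreeGroup.lift ![u, h, w] r = 1) →
      (∃ c : ℤ, w * w = h ^ c) ∧ h ^ (Fintype.card F - 1) = 1 ∧ h ^ N = 1)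
    (hcard : Nat.card F * (Nat.card F + 1) * N ≤ Nat.card T) :
    ∃ (CR : List (FreeGroup (Fin 2))) (P : (ZMod p)[X]) (b : ℕ)
      (s1 sg : (ZMod p)[X] × (ZMod p)[X] × ℕ),
      CR.length ≤ 2 ∧
      (∀ ξ : F, ξ ≠ 0 → aeval (ξ ^ b) P = ξ → aeval ξ (minpoly (ZMod p) ((g : F) ^ 2)) = 0) ∧
      (∀ (G : Type) [Group G] (u h : G), u ^ p = 1 → (∀ r ∈ CR, FreeGroup.lift ![u, h] r = 1) →
        ∀ k : ℤ, Commute u (cj u h (k * b))) ∧
      (aeval ((g : F) ^ 2) s1.1 = (1 : F) ∧ aeval ((g : F) ^ 2) s1.2.1 = (-1 : F) ∧ g ^ s1.2.2 = 1) ∧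
      (aeval ((g : F) ^ 2) sg.1 = (g : F) ∧ aeval ((g : F) ^ 2) sg.2.1 = -((g⁻¹ : Fˣ) : F) ∧
        g ^ sg.2.2 = g⁻¹) ∧
      Presents (Z ++ oddRels CR P b [s1, sg] (FreeGroup.of 0) (FreeGroup.of 1) (FreeGroup.of 2))
        ![π (ιSL (ofAdd 1)), π (hSL g), π wSL] := by
  classical
  obtain ⟨n, -, hn⟩ := FiniteField.card F (ringChar F)
  haveI : CharP F p := charP_of_injective_algebraMap (algebraMap (ZMod p) F).injective p
  rw [ringChar.eq F p] at hn
  obtain ⟨b, CR, hlen, hy, hT, hG⟩ := exists_comm_rels (F := F) hn h2 hg hgen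
  obtain ⟨P, hPx, hP⟩ := exists_interp (x := (g : F) ^ 2) hy
  have hx : Algebra.adjoin (ZMod p) {(g : F) ^ 2} = ⊤ := adjoin_sq hn hg
  have hsurj : Function.Surjective (aeval ((g : F) ^ 2) : (ZMod p)[X] →ₐ[ZMod p] F) := by
    rw [← AlgHom.range_eq_top, ← Algebra.adjoin_singleton_eq_range_aeval, hx]
  have hst : ∀ t : Fˣ, ∃ s : (ZMod p)[X] × (ZMod p)[X] × ℕ, aeval ((g : F) ^ 2) s.1 = (t : F) ∧
      aeval ((g : F) ^ 2) s.2.1 = -((t⁻¹ : Fˣ) : F) ∧ g ^ s.2.2 = t⁻¹ := by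
    intro t
    obtain ⟨f, hf⟩ := hsurj (t : F)
    obtain ⟨fa, hfa⟩ := hsurj (-((t⁻¹ : Fˣ) : F))
    obtain ⟨j, hj⟩ := hgen ((t⁻¹ : Fˣ) : F) (Units.ne_zero _)
    exact ⟨(f, fa, j), hf, hfa, Units.ext (by rw [Units.val_pow_eq_pow_val, ← hj])⟩
  obtain ⟨s1, hs1, hs1', hs1''⟩ := hst 1
  obtain ⟨sg, hsg, hsg', hsg''⟩ := hst g
  let o : Fin 3 → FreeGroup (Fin 3) := FreeGroup.of
  let L := Z ++ oddRels CR P b [s1, sg] (o 0) (o 1) (o 2)
  set u := π (ιSL (ofAdd 1))
  set h := π (hSL g)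
  set w := π wSL
  let ι : Multiplicative F →* T := π.comp ιSL
  have hι : ∀ t, h * ι (ofAdd t) * h⁻¹ = ι (ofAdd ((g : F) ^ 2 * t)) := fun t => by
    show π _ * π _ * (π _)⁻¹ = π _
    rw [← map_inv, ← map_mul, ← map_mul, hSL_conj]
  have hwd : ∀ f : (ZMod p)[X], wd u h f = ι (ofAdd (aeval ((g : F) ^ 2) f)) :=
    wd_eq ι h _ hι
  have hrels : ∀ r ∈ oddRels CR P b [s1, sg] u h w, r = 1 := by
    intro r hr
    simp only [oddRels, List.mem_append, List.mem_map, List.mem_cons, List.not_mem_nil, or_false] at hr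
    rcases hr with ⟨r', hr', rfl⟩ | (rfl | rfl | rfl) | ⟨s, hs, rfl⟩
    · exact hT T ι h hι r' hr'
    · show π _ ^ p = 1
      rw [← map_pow, ← map_pow, ← ofAdd_nsmul, nsmul_eq_mul, CharP.cast_eq_zero, zero_mul, ofAdd_zero,
        map_one, map_one]
    · rw [mul_inv_eq_one, show u = ι (ofAdd 1) from rfl, wd_eq ι (h ^ b) (((g : F) ^ 2) ^ b) (fun t => ?_) P, hPx, cj, zpow_one]
      · show h * ι (ofAdd 1) * h⁻¹ = _
        rw [hι, mul_one]
      · exact pow_conj ι hι b t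
    · show π _ * π _ * (π _)⁻¹ * π _ = 1
      rw [← map_inv, ← map_mul, ← map_mul, ← map_mul, wSL_conj, inv_mul_cancel, map_one]
    · have key : ∀ t : Fˣ, aeval ((g : F) ^ 2) s.1 = (t : F) →
          aeval ((g : F) ^ 2) s.2.1 = -((t⁻¹ : Fˣ) : F) → g ^ s.2.2 = t⁻¹ →
          stRel u h w s = 1 := by
        intro t e1 e2 e3
        rw [stRel, hwd, hwd, e1, e2, mul_inv_eq_one]
        show π _ * π _ * (π _)⁻¹ = π _ * π _ ^ s.2.2 * π _ * π _
        rw [← map_pow, ← map_pow, e3, ← map_inv, ← map_mul, ← map_mul, ← map_mul, ← map_mul, ← map_mul,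
          wSL_ι]
      rcases hs with rfl | rfl
      · exact key 1 hs1 hs1' hs1''
      · exact key g hsg hsg' hsg''
  have hf : FreeGroup.lift ![u, h, w] (o 0) = u ∧ FreeGroup.lift ![u, h, w] (o 1) = h ∧
      FreeGroup.lift ![u, h, w] (o 2) = w := by simp [o]
  refine ⟨CR, P, b, s1, sg, hlen, hP, hG, ⟨by simpa using hs1, by simpa using hs1', by simpa using hs1''⟩,
    ⟨hsg, hsg', hsg''⟩, presents_of_bound L ![u, h, w] ?_ ?_ ?_⟩
  · intro r hr
    rcases List.mem_append.1 hr with hr | hr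
    · exact hZ r hr
    · refine hrels _ ?_
      have := map_oddRels (FreeGroup.lift ![u, h, w]) CR P b [s1, sg] (o 0) (o 1) (o 2)
      rw [hf.1, hf.2.1, hf.2.2] at this
      rw [← this]
      exact List.mem_map.2 ⟨r, hr, rfl⟩
  · have hK : ∀ {z : T}, z ∈ ({u, h, w} : Set T) → z ∈ Subgroup.closure (Set.range ![u, h, w]) := by
      rintro z (rfl | rfl | rfl)
      · exact Subgroup.subset_closure ⟨0, rfl⟩
      · exact Subgroup.subset_closure ⟨1, rfl⟩
      · exact Subgroup.subset_closure ⟨2, rfl⟩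
    refine closure_images π hπ (fun t => ?_) (hK (by simp [w]))
    obtain ⟨f, hfe⟩ := hsurj t
    show ι (ofAdd t) ∈ _
    rw [← hfe, ← hwd]
    refine wd_mem _ (fun i => ?_) f
    rw [cj_natCast]
    exact mul_mem (mul_mem (pow_mem (hK (by simp)) i) (hK (by simp))) (inv_mem (pow_mem (hK (by simp)) i))
  · set R : Set (FreeGroup (Fin 3)) := ↑L.toFinset
    set φ := PresentedGroup.mk R
    have hR : ∀ r ∈ L, φ r = 1 := fun r hr => PresentedGroup.one_of_mem (by simpa [R] using hr)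
    have hlift : FreeGroup.lift ![φ (o 0), φ (o 1), φ (o 2)] = φ :=
      FreeGroup.ext_hom _ _ fun i => by fin_cases i <;> simp [o]
    have hrelG : ∀ r ∈ oddRels CR P b [s1, sg] (φ (o 0)) (φ (o 1)) (φ (o 2)), r = 1 := by
      intro r hr
      rw [← map_oddRels φ] at hr
      obtain ⟨r', hr', rfl⟩ := List.mem_map.1 hr
      exact hR r' (List.mem_append.2 (Or.inr hr'))
    have hw' : φ (o 2) * φ (o 1) * (φ (o 2))⁻¹ = (φ (o 1))⁻¹ :=
      eq_inv_of_mul_eq_one_left (hrelG _ (by simp [oddRels]))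
    obtain ⟨⟨c, hc⟩, hq, hper⟩ := hZG _ _ _ _ hw' fun r hr => by
      rw [hlift]; exact hR r (List.mem_append.2 (Or.inl hr))
    have htop : Subgroup.closure ({φ (o 0), φ (o 1), φ (o 2)} : Set (PresentedGroup R)) = ⊤ := by
      rw [eq_top_iff, ← PresentedGroup.closure_range_of, Subgroup.closure_le]
      rintro _ ⟨i, rfl⟩
      apply Subgroup.subset_closure
      fin_cases i <;> simp [o, φ, PresentedGroup.of, PresentedGroup.mk]
    obtain ⟨hfin, hle⟩ := odd_bound (F := F) g.ne_zero hgen hx hP (fun u h => hG _ u h)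
      ⟨s1, by simp, hs1⟩ ⟨sg, by simp, hsg⟩ hrelG hc hq hN hper htop
    exact ⟨hfin, hle.trans hcard⟩

/-- a presentation of an image of `SL₂` in odd characteristic -/
theorem odd_presentation (p : ℕ) [Fact p.Prime] [Algebra (ZMod p) F] {T : Type v} [Group T] [Finite T]
    (π : Matrix.SpecialLinearGroup (Fin 2) F →* T) (hπ : Function.Surjective π) (h2 : (2 : F) ≠ 0)
    {g : Fˣ} (hg : orderOf (g : F) = Fintype.card F - 1)
    (hgen : ∀ t : F, t ≠ 0 → ∃ k : ℕ, t = (g : F) ^ k) (Z : List (FreeGroup (Fin 3)))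
    (hZ : ∀ r ∈ Z, FreeGroup.lift ![π (ιSL (ofAdd 1)), π (hSL g), π wSL] r = 1) {N : ℕ} (hN : 0 < N)
    (hZG : ∀ (G : Type) [Group G] (u h w : G), w * h * w⁻¹ = h⁻¹ →
      (∀ r ∈ Z, FreeGroup.lift ![u, h, w] r = 1) →
      (∃ c : ℤ, w * w = h ^ c) ∧ h ^ (Fintype.card F - 1) = 1 ∧ h ^ N = 1)
    (hcard : Nat.card F * (Nat.card F + 1) * N ≤ Nat.card T) :
    ∃ rels : Finset (FreeGroup (Fin 3)), rels.card ≤ Z.length + 7 ∧
      Nonempty (PresentedGroup (↑rels : Set (FreeGroup (Fin 3))) ≃* T) := by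
  classical
  obtain ⟨CR, P, b, s1, sg, hlen, -, -, -, -, hpres⟩ := odd_presents p π hπ h2 hg hgen Z hZ hN hZG hcard
  obtain ⟨rels, hr, he⟩ := hpres.exists_pres
  exact ⟨rels, hr.trans (by simp [oddRels]; omega), he⟩

end CfsgLib.SL2Pres
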