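import Mathlib.Algebra.Polynomial.AlgebraMap
import Mathlib.Algebra.Module.ZMod
import Mathlib.Algebra.Polynomial.RingDivision
import Mathlib.FieldTheory.Minpoly.Field
import Mathlib.Algebra.Field.ZMod
import Mathlib.GroupTheory.Abelianization.Defs
import Mathlib.Algebra.Group.Subgroup.Finite
import Mathlib.Tactic.Group

/-!
Words in the conjugates of one element, read as the values of polynomials.
-/

set_option autoImplicit false
set_option linter.style.haveILetI false

namespace CfsgLib.SL2Pres

open Polynomial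

section

variable {p : ℕ} {G : Type*} [Group G]

/-- the conjugates of `u` by the powers of `h` -/
def cj (u h : G) (i : ℤ) : G := h ^ i * u * (h ^ i)⁻¹

/-- the word of a polynomial -/
noncomputable def wd (u h : G) (f : (ZMod p)[X]) : G :=
  ((List.range (f.natDegree + 1)).map fun i => (h ^ i * u * (h ^ i)⁻¹) ^ (f.coeff i).val).prod

theorem map_wd {H : Type*} [Group H] (φ : G →* H) (u h : G) (f : (ZMod p)[X]) :
    φ (wd u h f) = wd (φ u) (φ h) f := by
  rw [wd, wd, map_list_prod, List.map_map]
  congr 1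
  refine List.map_congr_left fun i _ => ?_
  simp

theorem wd_X [Fact p.Prime] (u h : G) : wd u h (X : (ZMod p)[X]) = h * u * h⁻¹ := by
  rw [wd, natDegree_X]
  simp [List.range_succ, ZMod.val_one]

theorem cj_zero (u h : G) : cj u h 0 = u := by simp [cj]

theorem cj_natCast (u h : G) (i : ℕ) : cj u h i = h ^ i * u * (h ^ i)⁻¹ := by simp [cj]

theorem cj_shift (u h : G) (i j : ℤ) : cj u h (i + j) = h ^ i * cj u h j * (h ^ i)⁻¹ := by
  simp only [cj, zpow_add]
  group

theorem Commute_shift {u h : G} {i j : ℤ} (k : ℤ) (e : Commute (cj u h i) (cj u h j)) :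
    Commute (cj u h (k + i)) (cj u h (k + j)) := by
  rw [cj_shift, cj_shift u h k j]
  exact e.map (MulAut.conj (h ^ k)).toMonoidHom

theorem wd_mem {u h : G} (A : Subgroup G) (hA : ∀ i : ℕ, cj u h i ∈ A) (f : (ZMod p)[X]) :
    wd u h f ∈ A := by
  refine list_prod_mem fun x hx => ?_
  obtain ⟨i, -, rfl⟩ := List.mem_map.1 hx
  rw [← cj_natCast]
  exact pow_mem (hA i) _

/-- the doubling relation makes the conjugates by multiples of `b` commute -/
theorem commute_multiples {u h : G} {a b : ℤ} (h1 : Commute u (cj u h b))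
    (h2 : cj u h a = u * cj u h b) (k : ℤ) : Commute u (cj u h (k * b)) := by
  have hnat : ∀ k : ℕ, Commute (cj u h 0) (cj u h ((k : ℤ) * b)) := by
    intro k
    induction k using Nat.strong_induction_on with
    | _ k ih =>
      rcases k with - | - | k
      · simp
      · simpa [cj_zero] using h1
      have e0 : Commute (cj u h 0) (cj u h (((k + 1 : ℕ) : ℤ) * b)) := ih _ (by omega)
      have e1 : Commute (cj u h b) (cj u h (((k + 1 : ℕ) : ℤ) * b)) := by
        have := Commute_shift b (ih k (by omega))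
        rwa [add_zero, show b + (k : ℤ) * b = ((k + 1 : ℕ) : ℤ) * b by push_cast; ring] at this
      have e2 : Commute (cj u h b) (cj u h (((k + 2 : ℕ) : ℤ) * b)) := by
        have := Commute_shift b e0
        rwa [add_zero, show b + ((k + 1 : ℕ) : ℤ) * b = ((k + 2 : ℕ) : ℤ) * b by push_cast; ring] at this
      have e3 := Commute_shift a e0
      rw [add_zero, show a + ((k + 1 : ℕ) : ℤ) * b = ((k + 1 : ℕ) : ℤ) * b + a by ring,
        cj_shift u h _ a, h2] at e3
      have hs : h ^ (((k + 1 : ℕ) : ℤ) * b) * (u * cj u h b) * (h ^ (((k + 1 : ℕ) : ℤ) * b))⁻¹ =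
          cj u h (((k + 1 : ℕ) : ℤ) * b) * cj u h (((k + 2 : ℕ) : ℤ) * b) := by
        rw [show ((k + 2 : ℕ) : ℤ) * b = ((k + 1 : ℕ) : ℤ) * b + b by push_cast; ring,
          cj_shift u h _ b, show cj u h (((k + 1 : ℕ) : ℤ) * b) =
            h ^ (((k + 1 : ℕ) : ℤ) * b) * u * (h ^ (((k + 1 : ℕ) : ℤ) * b))⁻¹ from rfl]
        group
      rw [hs] at e3
      rw [cj_zero] at e0 ⊢
      show Commute u (cj u h (((k + 2 : ℕ) : ℤ) * b))
      set B := cj u h b
      set C := cj u h (((k + 1 : ℕ) : ℤ) * b)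
      set D := cj u h (((k + 2 : ℕ) : ℤ) * b)
      have hL : u * B * (C * D) = C * (u * D) * B := by
        calc u * B * (C * D) = u * (B * C) * D := by group
          _ = u * C * (B * D) := by rw [e1.eq]; group
          _ = C * u * (D * B) := by rw [e0.eq, e2.eq]
          _ = _ := by group
      have hR : C * D * (u * B) = C * (D * u) * B := by group
      exact mul_left_cancel (mul_right_cancel (hL.symm.trans (e3.eq.trans hR)))
  rcases Int.eq_nat_or_neg k with ⟨n, rfl | rfl⟩
  · simpa [cj_zero] using hnat n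
  · have := (Commute_shift (-(n : ℤ) * b) (hnat n)).symm
    rwa [add_zero, neg_mul, neg_add_cancel, ← neg_mul, cj_zero] at this

theorem commute_cj {u h : G} {b : ℤ} (hk : ∀ k : ℤ, Commute u (cj u h (k * b))) (i j : ℤ) :
    Commute (cj u h (i * b)) (cj u h (j * b)) := by
  have := Commute_shift (i * b) (show Commute (cj u h 0) (cj u h ((j - i) * b)) by
    rw [cj_zero]; exact hk _)
  rwa [add_zero, ← add_mul, add_sub_cancel] at this

/-- if the next conjugate is a word in the multiples of `b`, all conjugates commute -/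
theorem commute_all {u h : G} {b : ℕ} (hk : ∀ k : ℤ, Commute u (cj u h (k * b))) {N : ℕ}
    (hN : 0 < N) (hper : h ^ N = 1) {P : (ZMod p)[X]} (hP : cj u h 1 = wd u (h ^ b) P) (i j : ℤ) :
    Commute (cj u h i) (cj u h j) := by
  set A := Subgroup.closure (Set.range fun k : ℤ => cj u h (k * b)) with hA
  have hcomm : ∀ x ∈ A, ∀ y ∈ A, Commute x y := fun x hx y hy => by
    have := Subgroup.isMulCommutative_closure (k := Set.range fun k : ℤ => cj u h (k * b)) (by
      rintro _ ⟨k, rfl⟩ _ ⟨l, rfl⟩
      exact (commute_cj hk k l).eq)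
    exact congrArg Subtype.val (this.is_comm.comm ⟨x, hx⟩ ⟨y, hy⟩)
  have hmem : ∀ k : ℤ, cj u h (k * b) ∈ A := fun k => Subgroup.subset_closure ⟨k, rfl⟩
  have hshift : ∀ (k : ℤ), ∀ x ∈ A, h ^ (k * b) * x * (h ^ (k * b))⁻¹ ∈ A := by
    intro k x hx
    have : A.map (MulAut.conj (h ^ (k * b))).toMonoidHom ≤ A := by
      rw [hA, MonoidHom.map_closure, Subgroup.closure_le]
      rintro _ ⟨_, ⟨l, rfl⟩, rfl⟩
      show h ^ (k * (b : ℤ)) * cj u h (l * b) * (h ^ (k * (b : ℤ)))⁻¹ ∈ A
      rw [← cj_shift, ← add_mul]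
      exact hmem _
    exact this ⟨x, hx, rfl⟩
  have h1 : cj u h 1 ∈ A := by
    rw [hP]
    refine wd_mem A (fun k => ?_) P
    rw [cj_natCast, ← pow_mul, ← cj_natCast, Nat.cast_mul, mul_comm]
    exact hmem _
  have hstep : ∀ x ∈ A, h * x * h⁻¹ ∈ A := by
    intro x hx
    have : A.map (MulAut.conj h).toMonoidHom ≤ A := by
      rw [hA, MonoidHom.map_closure, Subgroup.closure_le]
      rintro _ ⟨_, ⟨l, rfl⟩, rfl⟩
      show h * cj u h (l * b) * h⁻¹ ∈ A
      have e := hshift l _ h1
      rw [← cj_shift, add_comm] at e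
      rwa [cj_shift, zpow_one] at e
    exact this ⟨x, hx, rfl⟩
  have hall : ∀ i : ℕ, cj u h i ∈ A := by
    intro i
    induction i with
    | zero => simpa using hmem 0
    | succ i ih => rw [Nat.cast_succ, add_comm, cj_shift, zpow_one]; exact hstep _ ih
  have hz : ∀ i : ℤ, cj u h i ∈ A := by
    intro i
    have e : cj u h i = cj u h ((i % (N : ℤ)).toNat) := by
      rw [Int.toNat_of_nonneg (Int.emod_nonneg _ (by omega))]
      have : h ^ i = h ^ (i % (N : ℤ)) := zpow_eq_zpow_emod' i hper
      rw [cj, cj, this]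
    rw [e]; exact hall _
  exact hcomm _ (hz i) _ (hz j)

end

section Iota

variable {p : ℕ} [Fact p.Prime] {F : Type*} [Field F] [Algebra (ZMod p) F]
variable {G : Type*} [Group G]

/-- the conjugates of an element sent to the powers -/
theorem wd_eq (ι : Multiplicative F →* G) (h : G) (x : F)
    (hh : ∀ t : F, h * ι (Multiplicative.ofAdd t) * h⁻¹ = ι (Multiplicative.ofAdd (x * t)))
    (f : (ZMod p)[X]) :
    wd (ι (Multiplicative.ofAdd 1)) h f = ι (Multiplicative.ofAdd (aeval x f)) := by
  have hi : ∀ i : ℕ, h ^ i * ι (Multiplicative.ofAdd 1) * (h ^ i)⁻¹ =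
      ι (Multiplicative.ofAdd (x ^ i)) := by
    intro i
    induction i with
    | zero => simp
    | succ i ih => rw [pow_succ' x, ← hh, ← ih, pow_succ']; group
  rw [aeval_eq_sum_range, ofAdd_sum, wd]
  show _ = ι ((List.range (f.natDegree + 1)).map fun i =>
    Multiplicative.ofAdd (f.coeff i • x ^ i)).prod
  rw [map_list_prod, List.map_map]
  refine congrArg List.prod (List.map_congr_left fun i _ => ?_)
  rw [hi, ← map_pow, ← ofAdd_nsmul]
  show _ = ι _
  congr 2
  rw [← Nat.cast_smul_eq_nsmul (ZMod p), ZMod.natCast_zmod_val]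

/-- a cyclic module killed by the minimal polynomial is an image of the field -/
theorem exists_additive {V : Type*} [AddCommGroup V] [Module (ZMod p) V] (T : Module.End (ZMod p) V)
    (v : V) {x : F} (hgen : Algebra.adjoin (ZMod p) {x} = ⊤)
    (hm : aeval T (minpoly (ZMod p) x) v = 0) :
    ∃ φ : F →+ V, φ 1 = v ∧ ∀ t, φ (x * t) = T (φ t) := by
  have hsurj : Function.Surjective (aeval x : (ZMod p)[X] →ₐ[ZMod p] F) := by
    rw [← AlgHom.range_eq_top, ← Algebra.adjoin_singleton_eq_range_aeval, hgen]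
  have hwell : ∀ f g : (ZMod p)[X], aeval x f = aeval x g → aeval T f v = aeval T g v := by
    intro f g e
    obtain ⟨k, hk⟩ := minpoly.dvd (ZMod p) x (show aeval x (f - g) = 0 by rw [map_sub, e, sub_self])
    rw [← sub_eq_zero, ← LinearMap.sub_apply, ← map_sub, hk, mul_comm, map_mul, Module.End.mul_apply,
      hm, map_zero]
  choose lift hlift using hsurj
  refine ⟨AddMonoidHom.mk' (fun t => aeval T (lift t) v) (fun s t => ?_), ?_, fun t => ?_⟩
  · rw [← LinearMap.add_apply, ← map_add]
    exact hwell _ _ (by rw [map_add, hlift, hlift, hlift])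
  · show aeval T (lift 1) v = v
    rw [hwell (lift 1) 1 (by rw [hlift, map_one]), map_one, Module.End.one_apply]
  · show aeval T (lift (x * t)) v = T (aeval T (lift t) v)
    rw [hwell (lift (x * t)) (X * lift t) (by rw [map_mul, hlift, hlift, aeval_X]), map_mul,
      aeval_X, Module.End.mul_apply]

/-- words in an abelian group of exponent `p` -/
theorem wd_linear {A : Type*} [CommGroup A] [Module (ZMod p) (Additive A)]
    (T : Module.End (ZMod p) (Additive A)) (φ : A →* G) (h : G)
    (hT : ∀ a : Additive A, φ (Additive.toMul (T a)) = h * φ (Additive.toMul a) * h⁻¹) (a : A)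
    (f : (ZMod p)[X]) :
    φ (Additive.toMul (aeval T f (Additive.ofMul a))) = wd (φ a) h f := by
  have hi : ∀ i : ℕ, φ (Additive.toMul ((T ^ i) (Additive.ofMul a))) = h ^ i * φ a * (h ^ i)⁻¹ := by
    intro i
    induction i with
    | zero => simp
    | succ i ih => rw [pow_succ', Module.End.mul_apply, hT, ih, pow_succ']; group
  rw [aeval_eq_sum_range, LinearMap.sum_apply, toMul_sum, wd]
  show φ ((List.range (f.natDegree + 1)).map fun i =>
    Additive.toMul ((f.coeff i • T ^ i) (Additive.ofMul a))).prod = _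
  rw [map_list_prod, List.map_map]
  refine congrArg List.prod (List.map_congr_left fun i _ => ?_)
  show φ (Additive.toMul ((f.coeff i • T ^ i) (Additive.ofMul a))) = _
  rw [LinearMap.smul_apply, ← ZMod.natCast_zmod_val (f.coeff i), Nat.cast_smul_eq_nsmul,
    ZMod.natCast_zmod_val, toMul_nsmul, map_pow, hi]

/-- transport to an abelian group -/
theorem exists_hom {A : Type*} [CommGroup A] [Module (ZMod p) (Additive A)] (φ : A →* G)
    (hinj : Function.Injective φ) (h : G) (T : Module.End (ZMod p) (Additive A))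
    (hT : ∀ a : Additive A, φ (Additive.toMul (T a)) = h * φ (Additive.toMul a) * h⁻¹) (a : A)
    {x : F} (hgen : Algebra.adjoin (ZMod p) {x} = ⊤)
    (hker : ∀ Φ : (ZMod p)[X] → G, (∀ b f, Φ (f.comp (X ^ b)) = wd (φ a) (h ^ b) f) →
      (∀ f g, Φ f = 1 → Φ (g * f) = 1) → (∀ f g, Φ (f + g) = Φ f * Φ g) →
        Φ (minpoly (ZMod p) x) = 1) :
    ∃ ι : Multiplicative F →* G, ι (Multiplicative.ofAdd 1) = φ a ∧
      ∀ t : F, h * ι (Multiplicative.ofAdd t) * h⁻¹ = ι (Multiplicative.ofAdd (x * t)) := by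
  have hΦ : ∀ (b : ℕ) (f : (ZMod p)[X]), φ (Additive.toMul (aeval T (f.comp (X ^ b)) (Additive.ofMul a))) =
      wd (φ a) (h ^ b) f := by
    intro b f
    rw [aeval_comp, aeval_X_pow]
    refine wd_linear (T ^ b) φ (h ^ b) (fun c => ?_) a f
    induction b with
    | zero => simp
    | succ b ih => rw [pow_succ', Module.End.mul_apply, hT, ih, pow_succ']; group
  have hm : aeval T (minpoly (ZMod p) x) (Additive.ofMul a) = 0 := by
    refine Additive.toMul.injective (hinj ?_)
    rw [toMul_zero, map_one]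
    refine hker (fun f => φ (Additive.toMul (aeval T f (Additive.ofMul a)))) hΦ ?_ ?_
    · intro f g e
      have e' : aeval T f (Additive.ofMul a) = 0 :=
        Additive.toMul.injective (hinj (by rw [toMul_zero, map_one]; exact e))
      simp only [map_mul, Module.End.mul_apply, e', map_zero, toMul_zero, map_one]
    · intro f g
      simp only [map_add, LinearMap.add_apply, toMul_add, map_mul]
  obtain ⟨ψ, h1, h2⟩ := exists_additive T (Additive.ofMul a) hgen hm
  refine ⟨φ.comp (AddMonoidHom.toMultiplicativeLeft ψ), ?_, fun t => ?_⟩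
  · show φ (Additive.toMul (ψ 1)) = φ a
    rw [h1]; rfl
  · show h * φ (Additive.toMul (ψ t)) * h⁻¹ = φ (Additive.toMul (ψ (x * t)))
    rw [h2, hT]

/-- an element whose conjugates commute and satisfy the equation of `x` is the image of `1` under
a homomorphism from the field -/
theorem exists_iota {u h : G} {x : F} (hgen : Algebra.adjoin (ZMod p) {x} = ⊤) (hu : u ^ p = 1)
    (hcomm : ∀ i j : ℤ, Commute (cj u h i) (cj u h j))
    (hker : ∀ Φ : (ZMod p)[X] → G, (∀ b f, Φ (f.comp (X ^ b)) = wd u (h ^ b) f) →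
      (∀ f g, Φ f = 1 → Φ (g * f) = 1) → (∀ f g, Φ (f + g) = Φ f * Φ g) →
        Φ (minpoly (ZMod p) x) = 1) :
    ∃ ι : Multiplicative F →* G, ι (Multiplicative.ofAdd 1) = u ∧
      ∀ t : F, h * ι (Multiplicative.ofAdd t) * h⁻¹ = ι (Multiplicative.ofAdd (x * t)) := by
  classical
  set A := Subgroup.closure (Set.range (cj u h)) with hA
  obtain ⟨hAc⟩ := (Subgroup.isMulCommutative_closure (by
    rintro _ ⟨k, rfl⟩ _ ⟨l, rfl⟩
    exact (hcomm k l).eq) : IsMulCommutative A)
  have hmem : ∀ k : ℤ, cj u h k ∈ A := fun k => Subgroup.subset_closure ⟨k, rfl⟩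
  have hstep : ∀ a ∈ A, h * a * h⁻¹ ∈ A := by
    intro a ha
    have : A.map (MulAut.conj h).toMonoidHom ≤ A := by
      rw [hA, MonoidHom.map_closure, Subgroup.closure_le]
      rintro _ ⟨_, ⟨l, rfl⟩, rfl⟩
      show h * cj u h l * h⁻¹ ∈ A
      have := cj_shift u h 1 l
      rw [zpow_one] at this
      rw [← this]
      exact hmem _
    exact this ⟨a, ha, rfl⟩
  have hup : ∀ a : A, a ^ p = 1 := by
    rintro ⟨a, ha⟩
    refine Subtype.ext ?_
    show a ^ p = 1
    induction ha using Subgroup.closure_induction with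
    | mem a ha =>
      obtain ⟨k, rfl⟩ := ha
      rw [cj, conj_pow, hu, mul_one, mul_inv_cancel]
    | one => exact one_pow p
    | mul a b ha hb e1 e2 =>
      have hc : Commute a b := congrArg Subtype.val (hAc.comm ⟨a, ha⟩ ⟨b, hb⟩)
      rw [hc.mul_pow, e1, e2, mul_one]
    | inv a _ e1 => rw [inv_pow, e1, inv_one]
  let _ : CommGroup A := { (inferInstance : Group A) with mul_comm := hAc.comm }
  let _ : Module (ZMod p) (Additive A) := AddCommGroup.zmodModule (fun a => hup (Additive.toMul a))
  let C : Additive A →+ Additive A :=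
    AddMonoidHom.mk' (fun a => Additive.ofMul ⟨h * (Additive.toMul a).1 * h⁻¹,
      hstep _ (Additive.toMul a).2⟩) (fun a b => by
        apply Subtype.ext
        show h * ((Additive.toMul a).1 * (Additive.toMul b).1) * h⁻¹ =
          h * (Additive.toMul a).1 * h⁻¹ * (h * (Additive.toMul b).1 * h⁻¹)
        group)
  let T : Module.End (ZMod p) (Additive A) := AddMonoidHom.toZModLinearMap p C
  let u0 : A := ⟨u, by simpa [cj_zero] using hmem 0⟩
  exact exists_hom A.subtype A.subtype_injective h T (fun a => rfl) u0 hgen hker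

end Iota

end CfsgLib.SL2Pres
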